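import Cfsg.Agent.ClassicalMax.RootPlanes
import Cfsg.Agent.Classical.QuadClass

/-!
Facts on singular vectors of a quadratic space in odd characteristic and on operators that are scalar.
-/

set_option autoImplicit false
set_option linter.unusedSectionVars false
set_option linter.style.haveILetI false

namespace Cfsg.Agent.ClassicalMax.OTensor

open Module QuadraticMap Cfsg.Agent.Classical Cfsg.Agent.Classical.Quad

variable {F V : Type*} [Field F] [Finite F] [AddCommGroup V] [Module F V] [FiniteDimensional F V]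
  {Q : QuadraticForm F V}

theorem polar_sing {p : V} (hp : Q p = 0) : polar Q p p = 0 := by rw [polar_self', hp, mul_zero]

theorem two_squares (h2 : (2 : F) ≠ 0) (c : F) : ∃ x y : F, c = x ^ 2 + y ^ 2 := by
  classical
  letI := Fintype.ofFinite F
  rcases eq_or_ne c 0 with rfl | hc
  · exact ⟨0, 0, by ring⟩
  obtain ⟨x, y, h⟩ := Quad.exists_binary_one h2 (div_ne_zero one_ne_zero hc) (div_ne_zero one_ne_zero hc)
  field_simp at h
  exact ⟨x, y, h.symm⟩

/-- a subspace containing the singular partners of one singular vector is everything -/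
theorem top_of_partners (h2 : (2 : F) ≠ 0) (hQ : (polarBilin Q).Nondegenerate) (hn : 3 ≤ finrank F V) {p : V}
    (hp0 : p ≠ 0) (hp : Q p = 0) (S : Submodule F V) (h : ∀ g, Q g = 0 → polar Q p g = 1 → g ∈ S) : S = ⊤ := by
  obtain ⟨f, hf, hpf⟩ := exists_hyp_pair hQ hp0 hp
  have hmk : ∀ y, polar Q p y = 0 → polar Q f y = 0 → y + (-Q y) • p + f ∈ S := fun y h1 h2 => h _ (by
    rw [map_add', map_add_smul, hp, hf, polar_comm Q y p, h1, polar_add_left, polar_smul_left, hpf,
      polar_comm Q y f, h2, smul_eq_mul]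
    ring) (by rw [polar_add_right, polar_add_right, polar_smul_right, polar_sing hp, h1, hpf, smul_eq_mul]; ring)
  obtain ⟨u, hpu, hfu, hu⟩ := exists_aniso_perp hQ hn hp hf hpf
  have hfS := h f hf hpf
  have hpS : p ∈ S := by
    have h3 := S.sub_mem (S.add_mem (hmk u hpu hfu) (hmk (-u) (polar_perp_neg hpu) (polar_perp_neg hfu)))
      (S.add_mem hfS hfS)
    rw [QuadraticMap.map_neg, show u + (-Q u) • p + f + (-u + (-Q u) • p + f) - (f + f) = (-(2 * Q u)) • p by module] at h3
    exact (Submodule.smul_mem_iff _ (neg_ne_zero.2 (mul_ne_zero h2 hu))).1 h3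
  refine eq_top_iff.2 fun y _ => ?_
  set y' := y + (-polar Q f y) • p + (-polar Q p y) • f with hy'
  have h1 : polar Q p y' = 0 := by
    rw [hy', polar_add_right, polar_add_right, polar_smul_right, polar_smul_right, polar_sing hp, hpf, smul_eq_mul,
      smul_eq_mul]; ring
  have h2' : polar Q f y' = 0 := by
    rw [hy', polar_add_right, polar_add_right, polar_smul_right, polar_smul_right, polar_sing hf, polar_comm Q f p,
      hpf, smul_eq_mul, smul_eq_mul]; ring
  have h3 := S.add_mem (S.add_mem (S.sub_mem (S.sub_mem (hmk y' h1 h2') hfS) (S.smul_mem (-Q y') hpS))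
    (S.smul_mem (polar Q f y) hpS)) (S.smul_mem (polar Q p y) hfS)
  rwa [hy', show ∀ a : F, y + (-polar Q f y) • p + (-polar Q p y) • f + a • p + f - f - a • p +
    polar Q f y • p + polar Q p y • f = y from fun a => by module] at h3

/-- two linear forms agreeing on the singular vectors agree -/
theorem forms_eq (h2 : (2 : F) ≠ 0) (hQ : (polarBilin Q).Nondegenerate) (hn : 3 ≤ finrank F V) {M : Type*}
    [AddCommGroup M] [Module F M] (φ ψ : V →ₗ[F] M) (h : ∀ g, Q g = 0 → φ g = ψ g) : φ = ψ := by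
  obtain ⟨p, hp0, hp⟩ := exists_singular Q hn
  refine LinearMap.ext fun x => ?_
  have := top_of_partners h2 hQ hn hp0 hp (LinearMap.eqLocus φ ψ) fun g hg _ => h g hg
  exact (this ▸ Submodule.mem_top : x ∈ LinearMap.eqLocus φ ψ)

/-- the orthogonal of the orthogonal of a vector is its line -/
theorem mem_line_of_perp (hQ : (polarBilin Q).Nondegenerate) {p z : V}
    (h : ∀ w, polar Q p w = 0 → polar Q z w = 0) : z ∈ F ∙ p := by
  by_contra hz
  obtain ⟨w, hw, hzw⟩ := exists_perp hQ hz
  exact one_ne_zero (hzw.symm.trans (h w (hw p (Submodule.mem_span_singleton_self p))))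

/-- with a further singular vector in it, the orthogonal of a singular vector is spanned by singular vectors -/
theorem perp_le_of_sing (hQ : (polarBilin Q).Nondegenerate) (hn : 5 ≤ finrank F V) {p : V} (hp0 : p ≠ 0)
    (hp : Q p = 0) (S : Submodule F V) (h : ∀ w, Q w = 0 → polar Q p w = 0 → w ∈ S) {w : V}
    (hw : polar Q p w = 0) : w ∈ S := by
  obtain ⟨r, hr, hpr, hmem⟩ := exists_second hQ hn hp0 hp
  exact perp_induction hQ hr hpr hmem (fun y => y ∈ S) (fun a b _ _ => S.add_mem) h hw

/-- a vector orthogonal to the singular vectors orthogonal to `p` is on its line -/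
theorem mem_line_of_sing (hQ : (polarBilin Q).Nondegenerate) (hn : 5 ≤ finrank F V) {p z : V} (hp0 : p ≠ 0)
    (hp : Q p = 0) (h : ∀ w, Q w = 0 → polar Q p w = 0 → polar Q z w = 0) : z ∈ F ∙ p :=
  mem_line_of_perp hQ fun _ hw => perp_le_of_sing hQ hn hp0 hp (LinearMap.ker (polarBilin Q z)) h hw

/-- an operator with a symmetric or alternating form and all singular vectors as eigenvectors is scalar -/
theorem scalar_of_sing (h2 : (2 : F) ≠ 0) (hQ : (polarBilin Q).Nondegenerate) (hn : 3 ≤ finrank F V)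
    (B B' : V →ₗ[F] V) (hadj : ∀ x y, polar Q (B x) y = polar Q x (B' y))
    (h : ∀ p, Q p = 0 → B p ∈ F ∙ p) (h' : ∀ p, Q p = 0 → B' p ∈ F ∙ p) : ∃ κ : F, ∀ x, B x = κ • x := by
  obtain ⟨p₀, hp0, hp₀⟩ := exists_singular Q hn
  obtain ⟨κ, hκ⟩ := Submodule.mem_span_singleton.1 (h p₀ hp₀)
  have hmid : ∀ p z, p ≠ 0 → Q p = 0 → Q z = 0 → polar Q p z ≠ 0 → ∀ a b, B p = a • p → B' z = b • z → a = b :=
    fun p z _ hp hz hpz a b e e' => by
      have := hadj p z
      rw [e, e', polar_smul_left, polar_smul_right, smul_eq_mul, smul_eq_mul] at this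
      exact mul_right_cancel₀ hpz this
  refine ⟨κ, fun x => ?_⟩
  refine LinearMap.congr_fun (forms_eq h2 hQ hn B (κ • LinearMap.id) fun p hp => ?_) x
  show B p = κ • p
  rcases eq_or_ne p 0 with rfl | hpne
  · simp
  obtain ⟨z, hz, h1, h2'⟩ := exists_common hQ hn hp0 hp₀ hpne hp
  obtain ⟨b, hb⟩ := Submodule.mem_span_singleton.1 (h' z hz)
  obtain ⟨a, ha⟩ := Submodule.mem_span_singleton.1 (h p hp)
  have e1 := hmid p₀ z hp0 hp₀ hz (by rwa [polar_comm]) κ b hκ.symm hb.symm
  have e2 := hmid p z hpne hp hz (by rwa [polar_comm]) a b ha.symm hb.symm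
  rw [← ha, e2, ← e1]

/-- a bilinear form vanishing on orthogonal pairs of singular vectors is a multiple of the polar form -/
theorem polar_multiple (h2 : (2 : F) ≠ 0) (hQ : (polarBilin Q).Nondegenerate) (hn : 5 ≤ finrank F V)
    (G : V →ₗ[F] V →ₗ[F] F) (h : ∀ m m', Q m = 0 → Q m' = 0 → polar Q m m' = 0 → G m m' = 0) :
    ∃ κ : F, ∀ x y, G x y = κ * polar Q x y := by
  let d := LinearMap.BilinForm.toDual (polarBilin Q) hQ
  let B : V →ₗ[F] V := d.symm.toLinearMap ∘ₗ G
  let B' : V →ₗ[F] V := d.symm.toLinearMap ∘ₗ G.flip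
  have hB : ∀ x y, polar Q (B x) y = G x y := fun x y => by
    show polarBilin Q _ y = _
    simp only [B, d, LinearMap.comp_apply, LinearEquiv.coe_coe, LinearMap.BilinForm.apply_toDual_symm_apply]
  have hB' : ∀ x y, polar Q x (B' y) = G x y := fun x y => by
    rw [polar_comm]
    show polarBilin Q _ x = _
    simp only [B', d, LinearMap.comp_apply, LinearEquiv.coe_coe, LinearMap.BilinForm.apply_toDual_symm_apply,
      LinearMap.flip_apply]
  obtain ⟨κ, hκ⟩ := scalar_of_sing h2 hQ (by omega) B B' (fun x y => by rw [hB, hB'])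
    (fun p hp => by
      rcases eq_or_ne p 0 with rfl | hp0
      · simp
      exact mem_line_of_sing hQ hn hp0 hp fun w hw hpw => by rw [hB, h p w hp hw hpw])
    (fun p hp => by
      rcases eq_or_ne p 0 with rfl | hp0
      · simp
      exact mem_line_of_sing hQ hn hp0 hp fun w hw hpw => by
        rw [polar_comm, hB', h w p hw hp (by rw [polar_comm, hpw])])
  exact ⟨κ, fun x y => by rw [← hB, hκ, polar_smul_left, smul_eq_mul]⟩

/-- an alternating operator that is scalar is zero -/
theorem eq_zero_of_skew_scalar (h2 : (2 : F) ≠ 0) (hQ : (polarBilin Q).Nondegenerate) (hn : 3 ≤ finrank F V)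
    {S : V →ₗ[F] V} (hS : ∀ x y, polar Q (S x) y = -polar Q x (S y)) {κ : F} (h : ∀ x, S x = κ • x) : S = 0 := by
  obtain ⟨a, ha⟩ := exists_aniso hQ (by omega : 0 < finrank F V)
  have h1 := hS a a
  simp only [h, polar_smul_left, polar_smul_right, polar_self', smul_eq_mul] at h1
  have hκ : κ = 0 := by
    have h3 : 2 * (2 * κ * Q a) = 0 := by linear_combination h1
    simpa [h2, ha] using h3
  exact LinearMap.ext fun x => by rw [h, hκ, zero_smul]; rfl

/-- a non-zero alternating operator moves a singular vector off its line -/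
theorem exists_moved (h2 : (2 : F) ≠ 0) (hQ : (polarBilin Q).Nondegenerate) (hn : 3 ≤ finrank F V)
    {S : V →ₗ[F] V} (hS : ∀ x y, polar Q (S x) y = -polar Q x (S y)) (h0 : S ≠ 0) :
    ∃ p, Q p = 0 ∧ S p ∉ F ∙ p := by
  by_contra! h
  obtain ⟨κ, hκ⟩ := scalar_of_sing h2 hQ hn S (-S)
    (fun x y => by rw [hS, LinearMap.neg_apply, polar_neg_right]) h
    (fun p hp => by rw [LinearMap.neg_apply]; exact Submodule.neg_mem _ (h p hp))
  exact h0 (eq_zero_of_skew_scalar h2 hQ hn hS hκ)

end Cfsg.Agent.ClassicalMax.OTensor
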