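import Cfsg.Agent.ClassicalMax.OTensor.Main

/-!
Two factors of one dimension: an element of an overgroup of the stabiliser of their ordered decomposition keeps or
exchanges them, unless the group has every Siegel transformation.
-/

set_option autoImplicit false
set_option linter.unusedSectionVars false
set_option linter.style.haveILetI false

namespace Cfsg.Agent.ClassicalMax.OTensor

open Module QuadraticMap Cfsg.Agent.Classical Cfsg.Agent.Classical.Quad Cfsg.Agent.ClassicalMax

variable {F U W V : Type*} [Field F] [Finite F] [AddCommGroup U] [Module F U] [FiniteDimensional F U]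
  [AddCommGroup W] [Module F W] [FiniteDimensional F W] [AddCommGroup V] [Module F V] [FiniteDimensional F V]
  {Q : QuadraticForm F V} {QU : QuadraticForm F U} {QW : QuadraticForm F W} {pt : U →ₗ[F] W →ₗ[F] V}
  {H : Subgroup (oG Q)}

namespace Frame

variable (hF : Frame Q QU QW pt)
include hF

/-- a map of the second factor is carried to a map of the first factor -/
def GoodA (_hF : Frame Q QU QW pt) (g : oG Q) (N : W →ₗ[F] W) : Prop :=
  ∃ (T : V →ₗ[F] V) (A : U →ₗ[F] U), (∀ u w, T (pt u w) = pt (A u) w) ∧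
    ∀ u w, g.1 (pt u (N w)) = T (g.1 (pt u w))

theorem goodA_comp {g : oG Q} {N N' : W →ₗ[F] W} (h : hF.GoodA g N) (h' : hF.GoodA g N') :
    hF.GoodA g (N ∘ₗ N') := by
  obtain ⟨T, A, hT, hN⟩ := h
  obtain ⟨T', A', hT', hN'⟩ := h'
  exact ⟨T ∘ₗ T', A ∘ₗ A', fun u w => by simp [hT, hT'], fun u w => by simp [hN, hN']⟩

/-- maps carried to different factors commute -/
theorem mixed_comm {g : oG Q} {N N' : W →ₗ[F] W} (h : hF.Good g N) (h' : hF.GoodA g N') (w : W) :
    N (N' w) = N' (N w) := by
  obtain ⟨T, B, hT, hN⟩ := h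
  obtain ⟨T', A, hT', hN'⟩ := h'
  have hc : T ∘ₗ T' = T' ∘ₗ T := hF.ext_pure fun u w => by
    simp only [LinearMap.comp_apply, hT, hT']
  obtain ⟨u₁, hu₁⟩ := exists_aniso hF.ndU (by have := hF.dimU; omega : 0 < finrank F U)
  have h1 : pt u₁ (N (N' w)) = pt u₁ (N' (N w)) := g.1.injective (by
    rw [hN, hN', hN', hN]; exact LinearMap.congr_fun hc _)
  have h3 := congrArg (hF.pU u₁) h1
  rw [hF.pU_pt, hF.pU_pt] at h3
  exact smul_right_injective W (by rw [polar_self']; exact mul_ne_zero hF.two hu₁ : polar QU u₁ u₁ ≠ 0) h3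

theorem good_skP_or (hO : Over pt H) (hne : ¬ eo Q ≤ H) {g : oG Q} (hg : g ∈ H) {c d : W} (hp : Plane QW c d) :
    hF.Good g (skP QW c d) ∨ hF.GoodA g (skP QW c d) := by
  have key : ∀ u w, g.1 (pt u (skP QW c d w)) =
      (g.1.toLinearMap ∘ₗ hF.io c d ∘ₗ jJ F U ∘ₗ hF.iT c d ∘ₗ (g⁻¹).1.toLinearMap) (g.1 (pt u w)) := fun u w => by
    simp only [LinearMap.comp_apply, LinearEquiv.coe_coe, oG_inv_apply, hF.iT_apply, hF.pW_pt, jJ_apply, hF.io_apply,
      skP_apply, map_sub, map_smul, map_neg, LinearMap.smul_apply, LinearMap.neg_apply, ← sub_eq_add_neg]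
  rcases hF.moved_root_or hO hne hg hp with ⟨B, hB⟩ | ⟨-, A, hA⟩
  · exact Or.inl ⟨_, B, hB, key⟩
  · exact Or.inr ⟨_, A, hA, key⟩

theorem good_square_or (hO : Over pt H) (hne : ¬ eo Q ≤ H) {g : oG Q} (hg : g ∈ H) {y : W} (hy0 : y ≠ 0)
    (hy : QW y = 0) :
    hF.Good g ((polarBilin QW y).smulRight y) ∨ hF.GoodA g ((polarBilin QW y).smulRight y) := by
  obtain ⟨f, hf, hyf⟩ := exists_hyp_pair hF.ndW hy0 hy
  have hd := finrank_perpPair hy hf hyf
  have hnd := nondeg_restrictPair hF.ndW hy hf hyf
  have hn := hF.dimW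
  obtain ⟨v, hv0, hv⟩ := exists_singular (restrictPair QW y f) (by omega)
  obtain ⟨r, hr, hvr⟩ := exists_hyp_pair hnd hv0 hv
  have hr0 : r ≠ 0 := fun e => by rw [e] at hvr; simp [polar] at hvr
  obtain ⟨x, hx, hvx, hrx⟩ := exists_common hnd (by omega) hv0 hv hr0 hr
  have hf0 : f ≠ 0 := fun e => by rw [e] at hyf; simp [polar] at hyf
  have hv' : QW (v : W) = 0 := hv
  have hr' : QW (r : W) = 0 := hr
  have hx' : QW (x : W) = 0 := hx
  have hvr' : polar QW (v : W) (r : W) = 1 := hvr
  have hxv : polar QW (x : W) (v : W) ≠ 0 := fun e => hvx (by first | exact e | (rw [polar_comm]; exact e))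
  have hxr : polar QW (x : W) (r : W) ≠ 0 := fun e => hrx (by first | exact e | (rw [polar_comm]; exact e))
  have hyv := (mem_perpPair.1 v.2).1
  have hyr := (mem_perpPair.1 r.2).1
  have hyx := (mem_perpPair.1 x.2).1
  have hfx := (mem_perpPair.1 x.2).2
  have hfv := (mem_perpPair.1 v.2).2
  have hfr := (mem_perpPair.1 r.2).2
  have hp1 : Plane QW y (v : W) := plane_of_pair hy hv' hyv hy0 fun hm => by
    obtain ⟨k, hk⟩ := Submodule.mem_span_singleton.1 hm
    rw [← hk, polar_smul_left, hyr, smul_zero] at hvr'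
    exact zero_ne_one hvr'
  have hp2 : Plane QW (r : W) y := plane_of_pair hr' hy (by rw [polar_comm, hyr])
    (fun e => by rw [e] at hvr'; simp [polar] at hvr') fun hm => by
      obtain ⟨k, hk⟩ := Submodule.mem_span_singleton.1 hm
      rcases eq_or_ne k 0 with rfl | hk0
      · exact hy0 (by rw [← hk, zero_smul])
      have h := congrArg (polar QW (v : W)) hk
      rw [polar_smul_right, hvr', polar_comm QW (v : W) y, hyv, smul_eq_mul, mul_one] at h
      exact hk0 h
  have hp3 : Plane QW f (x : W) := plane_of_pair hf hx' hfx hf0 fun hm => by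
    obtain ⟨k, hk⟩ := Submodule.mem_span_singleton.1 hm
    rw [← hk, polar_smul_left, hfv, smul_zero] at hxv
    exact hxv rfl
  have e : skP QW y (v : W) ∘ₗ skP QW (r : W) y = (polarBilin QW y).smulRight y := LinearMap.ext fun w => by
    simp only [LinearMap.comp_apply, skP_apply, polar_sub_right, polar_smul_right, polar_sing hy, hyr,
      polar_comm QW (v : W) y, hyv, hvr', smul_zero, sub_zero, zero_smul, smul_eq_mul, mul_one, mul_zero]
    rfl
  -- the third plane commutes with neither
  have n1 : skP QW y (v : W) (skP QW f (x : W) y) ≠ skP QW f (x : W) (skP QW y (v : W) y) := fun h => hxv (by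
    simp only [skP_apply, polar_comm QW (x : W) y, hyx, polar_comm QW f y, hyf, polar_sing hy, polar_comm QW (v : W) y,
      hyv, polar_sub_right, polar_smul_right, zero_smul, smul_zero, sub_zero, zero_sub, one_smul, map_zero,
      polar_neg_right, neg_zero, polar_zero_right] at h
    have : polar QW (v : W) (x : W) • y = 0 := by linear_combination (norm := module) -h
    rw [polar_comm]
    exact (smul_eq_zero.1 this).resolve_right hy0)
  have n2 : skP QW (r : W) y (skP QW f (x : W) y) ≠ skP QW f (x : W) (skP QW (r : W) y y) := fun h => hxr (by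
    simp only [skP_apply, polar_comm QW (x : W) y, hyx, polar_comm QW f y, hyf, polar_sing hy, polar_comm QW (r : W) y,
      hyr, polar_sub_right, polar_smul_right, zero_smul, smul_zero, sub_zero, zero_sub, one_smul, map_zero,
      polar_neg_right, neg_zero, polar_zero_right] at h
    have : polar QW (r : W) (x : W) • y = 0 := by linear_combination (norm := module) h
    rw [polar_comm]
    exact (smul_eq_zero.1 this).resolve_right hy0)
  rcases hF.good_skP_or hO hne hg hp3 with h3 | h3
  · rcases hF.good_skP_or hO hne hg hp1 with h1 | h1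
    · rcases hF.good_skP_or hO hne hg hp2 with h2 | h2
      · exact Or.inl (e ▸ hF.good_comp h1 h2)
      · exact absurd (hF.mixed_comm h3 h2 y) (Ne.symm n2)
    · exact absurd (hF.mixed_comm h3 h1 y) (Ne.symm n1)
  · rcases hF.good_skP_or hO hne hg hp1 with h1 | h1
    · exact absurd (hF.mixed_comm h1 h3 y) n1
    · rcases hF.good_skP_or hO hne hg hp2 with h2 | h2
      · exact absurd (hF.mixed_comm h2 h3 y) n2
      · exact Or.inr (e ▸ hF.goodA_comp h1 h2)

end Frame

/-- exchanging the roles of the factors in the forms -/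
theorem Core.flip (hF : Core Q QU QW pt) : Core Q QW QU pt.flip where
  two := hF.two
  nd := hF.nd
  ndU := hF.ndW
  ndW := hF.ndU
  prod := fun u w u' w' => by rw [LinearMap.flip_apply, LinearMap.flip_apply, hF.prod, mul_comm]
  span := by
    refine eq_top_iff.2 (le_of_eq_of_le hF.span.symm (Submodule.span_mono ?_))
    rintro _ ⟨p, rfl⟩
    exact ⟨(p.2, p.1), rfl⟩
  lift := fun a b => (hF.lift b a).imp fun g hg => fun x y => hg y x

/-- every element keeps or exchanges two factors of one dimension -/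
theorem Over.inN_or (hO : Over pt H) (hF : Frame Q QU QW pt) (hd : finrank F U = finrank F W) (hne : ¬ eo Q ≤ H)
    {g : oG Q} (hg : g ∈ H) :
    InN pt g.1 ∨ ∃ (α : U →ₗ[F] W) (β : W →ₗ[F] U), ∀ u w, g.1 (pt u w) = pt (β w) (α u) := by
  have hW := hF.dimW
  obtain ⟨p, hp0, hp⟩ := exists_singular QW (by omega)
  have hpart : ∀ y, polar QW p y = 1 → y ≠ 0 := fun y hpy e => by rw [e] at hpy; simp [polar] at hpy
  have hnc : ∀ y, polar QW p y = 1 → QW y = 0 →
      (polarBilin QW p).smulRight p ((polarBilin QW y).smulRight y y) ≠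
        (polarBilin QW y).smulRight y ((polarBilin QW p).smulRight p y) := fun y hpy hy h => by
    simp only [LinearMap.smulRight_apply, polarBilin_apply_apply, polar_sing hy, zero_smul, map_zero, hpy,
      one_smul, polar_comm QW y p, polar_zero_right] at h
    exact hpart y hpy h.symm
  rcases hF.good_square_or hO hne hg hp0 hp with hp' | hp'
  · refine Or.inl (hF.maps_of_idem hF.toCore rfl hp0 hp fun y hy hpy => ?_)
    rcases hF.good_square_or hO hne hg (hpart y hpy) hy with hy' | hy'
    · obtain ⟨T, B, hT, hN⟩ := hF.good_comp hy' hp'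
      exact ⟨T, B, hT, fun u w => by
        rw [← hN u w]
        simp [polar_comm QW y p, hpy]⟩
    · exact absurd (hF.mixed_comm hp' hy' y) (hnc y hpy hy)
  · refine Or.inr ?_
    obtain ⟨α, β, h⟩ := hF.maps_of_idem hF.toCore.flip hd.symm hp0 hp fun y hy hpy => by
      rcases hF.good_square_or hO hne hg (hpart y hpy) hy with hy' | hy'
      · exact absurd (hF.mixed_comm hy' hp' y) (Ne.symm (hnc y hpy hy))
      · obtain ⟨T, A, hT, hN⟩ := hF.goodA_comp hy' hp'
        refine ⟨T, A, fun w u => hT u w, fun u w => ?_⟩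
        rw [← hN u w]
        simp [polar_comm QW y p, hpy]
    exact ⟨α, β, h⟩

end Cfsg.Agent.ClassicalMax.OTensor
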