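import Cfsg.Agent.ClassicalMax.OTensor.Quadr

/-!
A decomposition of an orthogonal space as a tensor product of two orthogonal spaces: contractions, the maps of the
factors as isometries, and what an overgroup of the stabiliser contains.
-/

set_option autoImplicit false
set_option linter.unusedSectionVars false
set_option linter.style.haveILetI false

namespace Cfsg.Agent.ClassicalMax.OTensor

open Module QuadraticMap Cfsg.Agent.Classical Cfsg.Agent.Classical.Quad Cfsg.Agent.ClassicalMax

variable {F U W V : Type*} [Field F] [AddCommGroup U] [Module F U] [AddCommGroup W] [Module F W]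
  [AddCommGroup V] [Module F V]

/-- an orthogonal tensor decomposition, without conditions on the dimensions -/
structure Core (Q : QuadraticForm F V) (QU : QuadraticForm F U) (QW : QuadraticForm F W)
    (pt : U →ₗ[F] W →ₗ[F] V) : Prop where
  two : (2 : F) ≠ 0
  nd : (polarBilin Q).Nondegenerate
  ndU : (polarBilin QU).Nondegenerate
  ndW : (polarBilin QW).Nondegenerate
  prod : ∀ u w u' w', polar Q (pt u w) (pt u' w') = polar QU u u' * polar QW w w'
  span : Submodule.span F (Set.range fun p : U × W => pt p.1 p.2) = ⊤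
  lift : ∀ (a : U ≃ₗ[F] U) (b : W ≃ₗ[F] W), ∃ g : V ≃ₗ[F] V, ∀ x y, g (pt x y) = pt (a x) (b y)

/-- an orthogonal tensor decomposition; the second factor is the larger one -/
structure Frame (Q : QuadraticForm F V) (QU : QuadraticForm F U) (QW : QuadraticForm F W)
    (pt : U →ₗ[F] W →ₗ[F] V) : Prop extends Core Q QU QW pt where
  dimU : 3 ≤ finrank F U
  dimW : 5 ≤ finrank F W
  dimle : finrank F U ≤ finrank F W
  q3 : finrank F U = 3 → 5 ≤ Nat.card F
  ell : finrank F U ≤ 4 → ∀ p y, QU p = 0 → QU y = 0 → polar QU p y = 0 → p ≠ 0 → y ∈ F ∙ p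

/-- the map preserves the decomposition -/
def InN (pt : U →ₗ[F] W →ₗ[F] V) (g : V ≃ₗ[F] V) : Prop :=
  ∃ (a : U →ₗ[F] U) (b : W →ₗ[F] W), ∀ x y, g (pt x y) = pt (a x) (b y)

variable {Q : QuadraticForm F V} {QU : QuadraticForm F U} {QW : QuadraticForm F W} {pt : U →ₗ[F] W →ₗ[F] V}

/-- an overgroup of the part of the stabiliser in the commutator subgroup -/
def Over (pt : U →ₗ[F] W →ₗ[F] V) (H : Subgroup (oG Q)) : Prop :=
  ∀ g ∈ commutator (oG Q), InN pt g.1 → g ∈ H

namespace Core

variable (hF : Core Q QU QW pt)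
include hF

theorem Q_pure (u : U) (w : W) : Q (pt u w) = 2 * QU u * QW w := by
  have h := hF.prod u w u w
  rw [polar_self', polar_self', polar_self'] at h
  exact mul_left_cancel₀ hF.two (by linear_combination h)

theorem pure_sing {u : U} (hu : QU u = 0) (w : W) : Q (pt u w) = 0 := by rw [hF.Q_pure, hu]; ring

theorem pure_sing' (u : U) {w : W} (hw : QW w = 0) : Q (pt u w) = 0 := by rw [hF.Q_pure, hw]; ring

variable [FiniteDimensional F U] [FiniteDimensional F W]

/-- contraction with a vector of the second factor -/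
noncomputable def pW (c : W) : V →ₗ[F] U :=
  (LinearMap.BilinForm.toDual (polarBilin QU) hF.ndU).symm.toLinearMap ∘ₗ ((polarBilin Q).comp (pt.flip c)).flip

/-- contraction with a vector of the first factor -/
noncomputable def pU (u : U) : V →ₗ[F] W :=
  (LinearMap.BilinForm.toDual (polarBilin QW) hF.ndW).symm.toLinearMap ∘ₗ ((polarBilin Q).comp (pt u)).flip

theorem polar_pW (c : W) (z : V) (u : U) : polar QU (hF.pW c z) u = polar Q (pt u c) z := by
  show polarBilin QU _ u = _
  simp only [pW, LinearMap.comp_apply, LinearEquiv.coe_coe, LinearMap.BilinForm.apply_toDual_symm_apply]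
  rfl

theorem polar_pU (u : U) (z : V) (w : W) : polar QW (hF.pU u z) w = polar Q (pt u w) z := by
  show polarBilin QW _ w = _
  simp only [pU, LinearMap.comp_apply, LinearEquiv.coe_coe, LinearMap.BilinForm.apply_toDual_symm_apply]
  rfl

theorem eqU {x y : U} (h : ∀ u, polar QU x u = polar QU y u) : x = y :=
  sub_eq_zero.1 (hF.ndU.1 _ fun u => by
    show polar QU (x - y) u = 0
    rw [polar_sub_left, h, sub_self])

theorem eqW {x y : W} (h : ∀ u, polar QW x u = polar QW y u) : x = y :=
  sub_eq_zero.1 (hF.ndW.1 _ fun u => by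
    show polar QW (x - y) u = 0
    rw [polar_sub_left, h, sub_self])

theorem pW_pt (c : W) (u : U) (w : W) : hF.pW c (pt u w) = polar QW c w • u := hF.eqU fun u' => by
  rw [hF.polar_pW, hF.prod, polar_smul_left, smul_eq_mul, polar_comm QU u u', mul_comm]

theorem pU_pt (e : U) (u : U) (w : W) : hF.pU e (pt u w) = polar QU e u • w := hF.eqW fun w' => by
  rw [hF.polar_pU, hF.prod, polar_smul_left, smul_eq_mul, polar_comm QW w w']

omit [FiniteDimensional F U] [FiniteDimensional F W] in
theorem vext {x y : V} (h : ∀ u w, polar Q (pt u w) x = polar Q (pt u w) y) : x = y := by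
  refine sub_eq_zero.1 (hF.nd.2 _ fun z => ?_)
  have hz : z ∈ Submodule.span F (Set.range fun p : U × W => pt p.1 p.2) := hF.span ▸ Submodule.mem_top
  refine Submodule.span_induction ?_ (by simp) (fun a b _ _ ha hb => ?_) (fun a b _ hb => ?_) hz
  · rintro _ ⟨p, rfl⟩
    show polar Q (pt p.1 p.2) (x - y) = 0
    rw [polar_sub_right, h, sub_self]
  · show polar Q (a + b) (x - y) = 0
    rw [polar_add_left, show polar Q a (x - y) = 0 from ha, show polar Q b (x - y) = 0 from hb, add_zero]
  · show polar Q (a • b) (x - y) = 0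
    rw [polar_smul_left, show polar Q b (x - y) = 0 from hb, smul_zero]

omit [FiniteDimensional F U] [FiniteDimensional F W] in
theorem ext_pure {M : Type*} [AddCommGroup M] [Module F M] {f g : V →ₗ[F] M}
    (h : ∀ x y, f (pt x y) = g (pt x y)) : f = g :=
  LinearMap.ext_on hF.span fun _ ⟨p, e⟩ => e ▸ h p.1 p.2

theorem eq_of_pW {x y : V} (h : ∀ w, hF.pW w x = hF.pW w y) : x = y :=
  hF.vext fun u w => by rw [← hF.polar_pW, ← hF.polar_pW, h]

omit [FiniteDimensional F U] [FiniteDimensional F W] in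
theorem exists_pair {a : U ≃ₗ[F] U} {b : W ≃ₗ[F] W} (ha : a ∈ oG QU) (hb : b ∈ oG QW) :
    ∃ g : oG Q, ∀ x y, g.1 (pt x y) = pt (a x) (b y) := by
  obtain ⟨g, hg⟩ := hF.lift a b
  have hpol : ∀ z z', polar Q (g z) (g z') = polar Q z z' := by
    have h1 : ((polarBilin Q).compl₁₂ g.toLinearMap g.toLinearMap) = polarBilin Q := hF.ext_pure fun x y => by
      refine hF.ext_pure fun x' y' => ?_
      show polar Q (g (pt x y)) (g (pt x' y')) = polar Q (pt x y) (pt x' y')
      rw [hg, hg, hF.prod, hF.prod, polar_eq_of_mem ha, polar_eq_of_mem hb]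
    exact fun z z' => LinearMap.congr_fun₂ h1 z z'
  refine ⟨⟨g, fun z => ?_⟩, hg⟩
  have h2 := hpol z z
  rw [polar_self', polar_self'] at h2
  exact mul_left_cancel₀ hF.two h2

/-- the action of a pair of isometries -/
noncomputable def lp : oG QU × oG QW →* oG Q :=
  MonoidHom.mk' (fun p => (hF.exists_pair p.1.2 p.2.2).choose) fun p p' => ext_oG fun z => by
    refine LinearMap.congr_fun (f := ((hF.exists_pair (p * p').1.2 (p * p').2.2).choose).1.toLinearMap)
      (g := ((hF.exists_pair p.1.2 p.2.2).choose * (hF.exists_pair p'.1.2 p'.2.2).choose : oG Q).1.toLinearMap)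
      (hF.ext_pure fun x y => ?_) z
    rw [LinearEquiv.coe_coe, LinearEquiv.coe_coe, (hF.exists_pair (p * p').1.2 (p * p').2.2).choose_spec x y,
      oG_mul_apply, (hF.exists_pair p'.1.2 p'.2.2).choose_spec x y,
      (hF.exists_pair p.1.2 p.2.2).choose_spec (p'.1.1 x) (p'.2.1 y)]
    rfl

omit [FiniteDimensional F U] [FiniteDimensional F W] in
theorem lp_pt (a : oG QU) (b : oG QW) (x : U) (y : W) : (hF.lp (a, b)).1 (pt x y) = pt (a.1 x) (b.1 y) :=
  (hF.exists_pair a.2 b.2).choose_spec x y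

omit [FiniteDimensional F U] [FiniteDimensional F W] in
theorem lp_inN (a : oG QU) (b : oG QW) : InN pt (hF.lp (a, b)).1 :=
  ⟨a.1.toLinearMap, b.1.toLinearMap, hF.lp_pt a b⟩

theorem pW_lp (a : oG QU) (b : oG QW) (c : W) (z : V) :
    hF.pW (b.1 c) ((hF.lp (a, b)).1 z) = a.1 (hF.pW c z) := by
  refine LinearMap.congr_fun (f := hF.pW (b.1 c) ∘ₗ (hF.lp (a, b)).1.toLinearMap)
    (g := a.1.toLinearMap ∘ₗ hF.pW c) (hF.ext_pure fun x y => ?_) z
  show hF.pW (b.1 c) ((hF.lp (a, b)).1 (pt x y)) = a.1 (hF.pW c (pt x y))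
  rw [hF.lp_pt, hF.pW_pt, hF.pW_pt, polar_oG, map_smul]

theorem pU_lp (a : oG QU) (b : oG QW) (e : U) (z : V) :
    hF.pU (a.1 e) ((hF.lp (a, b)).1 z) = b.1 (hF.pU e z) := by
  refine LinearMap.congr_fun (f := hF.pU (a.1 e) ∘ₗ (hF.lp (a, b)).1.toLinearMap)
    (g := b.1.toLinearMap ∘ₗ hF.pU e) (hF.ext_pure fun x y => ?_) z
  show hF.pU (a.1 e) ((hF.lp (a, b)).1 (pt x y)) = b.1 (hF.pU e (pt x y))
  rw [hF.lp_pt, hF.pU_pt, hF.pU_pt, polar_oG, map_smul]

end Core

variable {H : Subgroup (oG Q)} [Finite F]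

omit [Finite F] in
theorem Over.lp_memC (hO : Over pt H) (hF : Core Q QU QW pt) {a : oG QU} {b : oG QW}
    (ha : a ∈ commutator (oG QU)) (hb : b ∈ commutator (oG QW)) : hF.lp (a, b) ∈ H := by
  refine hO _ ?_ (hF.lp_inN a b)
  have h : ((a, b) : oG QU × oG QW) ∈ commutator (oG QU × oG QW) := by
    rw [show ((a, b) : oG QU × oG QW) = (a, 1) * (1, b) by simp]
    exact mul_mem (map_derivedSeries_le_derivedSeries (MonoidHom.inl _ _) 1
        (Subgroup.mem_map_of_mem _ (by rwa [derivedSeries_one])))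
      (map_derivedSeries_le_derivedSeries (MonoidHom.inr _ _) 1
        (Subgroup.mem_map_of_mem _ (by rwa [derivedSeries_one])))
  have h1 := map_derivedSeries_le_derivedSeries hF.lp 1 (Subgroup.mem_map_of_mem _ (by rwa [derivedSeries_one]))
  rwa [derivedSeries_one] at h1

omit [Finite F] in
theorem Over.lp_mem (hO : Over pt H) (hF : Frame Q QU QW pt) {a : oG QU} {b : oG QW}
    (ha : a ∈ commutator (oG QU)) (hb : b ∈ commutator (oG QW)) : hF.lp (a, b) ∈ H :=
  hO.lp_memC hF.toCore ha hb

variable [FiniteDimensional F U] [FiniteDimensional F W]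

theorem Over.sW_mem (hO : Over pt H) (hF : Frame Q QU QW pt) {p v : W} (hp : QW p = 0) (hv : polar QW p v = 0) :
    hF.lp (1, sO hp hv) ∈ H :=
  hO.lp_mem hF (one_mem _) (sO_mem_commutator hF.ndW (Or.inr (by have := hF.dimW; omega)) hp hv)

theorem Over.sU_mem (hO : Over pt H) (hF : Frame Q QU QW pt) {p v : U} (hp : QU p = 0) (hv : polar QU p v = 0) :
    hF.lp (sO hp hv, 1) ∈ H :=
  hO.lp_mem hF (sO_mem_commutator hF.ndU (Or.inl fun h2 => hF.two (by
    letI := Fintype.ofFinite F
    have h := Nat.cast_card_eq_zero F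
    rw [← Nat.card_eq_fintype_card, h2] at h
    exact_mod_cast h)) hp hv) (one_mem _)

end Cfsg.Agent.ClassicalMax.OTensor
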