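import Cfsg.Agent.ClassicalMax.OTensor.Main
import Cfsg.Agent.ClassicalMax.SpThree.Bridge

/-!
The stabiliser of a decomposition `O ⊗ O` of an orthogonal space of odd characteristic is maximal.
-/

set_option autoImplicit false
set_option linter.unusedSectionVars false
set_option linter.style.haveILetI false

namespace Cfsg.Agent.ClassicalMax.OTensor

open Module QuadraticMap Cfsg.Agent.Classical Cfsg.Agent.Classical.Quad Cfsg.Agent.ClassicalMax

variable {F : Type*} [Field F] [Fintype F] {ι : Type} [Fintype ι] [DecidableEq ι] {n₁ n₂ : ℕ}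

theorem inN_flip {U W V : Type*} [AddCommGroup U] [Module F U] [AddCommGroup W] [Module F W] [AddCommGroup V]
    [Module F V] (pt : U →ₗ[F] W →ₗ[F] V) (g : V ≃ₗ[F] V) : InN pt.flip g ↔ InN pt g :=
  ⟨fun ⟨a, b, h⟩ => ⟨b, a, fun x y => h y x⟩, fun ⟨a, b, h⟩ => ⟨b, a, fun x y => h y x⟩⟩

/-- a subgroup described by a decomposition is maximal -/
theorem isMaximal_of_frame {U W : Type*} [AddCommGroup U] [Module F U] [FiniteDimensional F U] [AddCommGroup W]
    [Module F W] [FiniteDimensional F W] {Q : QuadraticForm F (ι → F)} {QU : QuadraticForm F U}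
    {QW : QuadraticForm F W} {pt : U →ₗ[F] W →ₗ[F] (ι → F)} (hF : Frame Q QU QW pt)
    (hlt : finrank F U < finrank F W) (hn : 5 ≤ Fintype.card ι)
    (K : Subgroup (GL ι F)) (hK : ∀ g, (glEquiv ι F).symm g ∈ K ↔ InN pt g) :
    Cfsg.Geo.IsMaximalIn (Cfsg.Geo.omegaGL ⇑Q) (K ⊓ Cfsg.Geo.omegaGL ⇑Q) := by
  refine RootPlanes.isMaximalIn_omega Q hF.nd hn K ?_ fun H hH g hg hgK => ?_
  · obtain ⟨g, hg, hN⟩ := hF.exists_not_inN
    exact ⟨g, hg, fun h => hN ((hK _).1 h)⟩
  · have hO : Over pt H := fun k hk hN => hH k hk ((hK _).2 hN)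
    by_contra hne
    exact hgK ((hK _).2 (hO.inN hF hlt hne hg))

theorem pureT_eq_zero (e : ι ≃ Fin n₁ × Fin n₂) (P : GL ι F) {x : Fin n₁ → F} {y : Fin n₂ → F}
    (h : NotMax.pureT e P x y = 0) : x = 0 ∨ y = 0 := by
  rw [NotMax.pureT_apply] at h
  have h1 := congrArg (((P⁻¹ : GL ι F) : Matrix ι ι F).mulVec) h
  rw [Matrix.mulVec_mulVec, ← Units.val_mul, inv_mul_cancel, Units.val_one, Matrix.one_mulVec, Matrix.mulVec_zero]
    at h1
  by_contra! hne
  obtain ⟨i, hi⟩ := Function.ne_iff.1 hne.1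
  obtain ⟨j, hj⟩ := Function.ne_iff.1 hne.2
  have h2 := congrFun h1 (e.symm (i, j))
  rw [Function.comp_apply, Equiv.apply_symm_apply] at h2
  exact (mul_ne_zero hi hj) h2

theorem mem_iff (e : ι ≃ Fin n₁ × Fin n₂) (P : GL ι F) (h1 : 1 ≤ n₁) (h2 : 1 ≤ n₂) (g : (ι → F) ≃ₗ[F] (ι → F)) :
    (glEquiv ι F).symm g ∈ Cfsg.Geo.tensorProductSubgroup n₁ n₂ e P ↔ InN (NotMax.pureT e P) g := by
  constructor
  · intro hm
    obtain ⟨a, b, hab⟩ := NotMax.exists_pair e P hm
    exact ⟨Matrix.mulVecLin a.val, Matrix.mulVecLin b.val, fun u w => by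
      rw [← symm_mulVec, Matrix.mulVecLin_apply, Matrix.mulVecLin_apply]; exact hab u w⟩
  rintro ⟨a, b, hg⟩
  have ha : Function.Injective a := (injective_iff_map_eq_zero a).2 fun x hx => by
    have h0 : g (NotMax.pureT e P x (fun _ => 1)) = 0 := by rw [hg, hx, map_zero, LinearMap.zero_apply]
    exact (pureT_eq_zero e P ((LinearEquiv.map_eq_zero_iff g).1 h0)).resolve_right
      fun e' => one_ne_zero (congrFun e' ⟨0, h2⟩)
  have hb : Function.Injective b := (injective_iff_map_eq_zero b).2 fun y hy => by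
    have h0 : g (NotMax.pureT e P (fun _ => 1) y) = 0 := by rw [hg, hy, map_zero]
    exact (pureT_eq_zero e P ((LinearEquiv.map_eq_zero_iff g).1 h0)).resolve_left
      fun e' => one_ne_zero (congrFun e' ⟨0, h1⟩)
  obtain ⟨G, hGK, hG⟩ := SpThree.exists_of_pair e P ((glEquiv (Fin n₁) F).symm (LinearEquiv.ofInjectiveEndo a ha))
    ((glEquiv (Fin n₂) F).symm (LinearEquiv.ofInjectiveEndo b hb))
  suffices g = glEquiv ι F G by rwa [this, MulEquiv.symm_apply_apply]
  refine LinearEquiv.toLinearMap_injective (LinearMap.ext_on (SpThree.span_pureT e P) ?_)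
  rintro _ ⟨p, rfl⟩
  show g (NotMax.pureT e P p.1 p.2) = glEquiv ι F G (NotMax.pureT e P p.1 p.2)
  rw [← symm_mulVec (glEquiv ι F G), MulEquiv.symm_apply_apply, hG, hg, symm_mulVec, symm_mulVec]
  rfl

theorem exists_quad (h2 : (2 : F) ≠ 0) {k : ℕ} {f : (Fin k → F) → (Fin k → F) → F}
    (hf : Cfsg.Geo.IsSymmetricForm f) {c : F} (hc : c ≠ 0) :
    ∃ q : QuadraticForm F (Fin k → F), (polarBilin q).Nondegenerate ∧ ∀ x y, polar q x y = c * f x y := by
  let bS : LinearMap.BilinForm F (Fin k → F) := LinearMap.mk₂ F f hf.bilinear.add_left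
    (fun c x y => hf.bilinear.smul_left c x y) hf.bilinear.add_right (fun c x y => hf.bilinear.smul_right c x y)
  have hb : ∀ x y, bS x y = f x y := fun x y => rfl
  refine ⟨((c * (2 : F)⁻¹) • bS).toQuadraticMap, ?_, ?_⟩
  swap
  · intro x y
    rw [LinearMap.BilinMap.polar_toQuadraticMap, LinearMap.smul_apply, LinearMap.smul_apply, LinearMap.smul_apply,
      LinearMap.smul_apply, hb, hb, hf.symm y x, smul_eq_mul]
    field_simp
    ring
  have hp : ∀ x y, polarBilin ((c * (2 : F)⁻¹) • bS).toQuadraticMap x y = c * f x y := fun x y => by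
    show polar _ x y = _
    rw [LinearMap.BilinMap.polar_toQuadraticMap, LinearMap.smul_apply, LinearMap.smul_apply, LinearMap.smul_apply,
      LinearMap.smul_apply, hb, hb, hf.symm y x, smul_eq_mul]
    field_simp
    ring
  constructor
  · intro v hv
    by_contra hne
    obtain ⟨x, hx⟩ := (hf.nondegenerate v hne).2
    exact hx ((mul_eq_zero.1 ((hp v x).symm.trans (hv x))).resolve_left hc)
  · intro v hv
    by_contra hne
    obtain ⟨x, hx⟩ := (hf.nondegenerate v hne).1
    exact hx ((mul_eq_zero.1 ((hp x v).symm.trans (hv x))).resolve_left hc)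

theorem finrank_pair {X : Type*} [AddCommGroup X] [Module F X] {p y : X} (hp : p ≠ 0) (hy : y ∉ F ∙ p) :
    finrank F (Submodule.span F ({p, y} : Set X)) = 2 := by
  have hli : LinearIndependent F ![p, y] := by
    rw [LinearIndependent.pair_iff' hp]
    exact fun a e => hy (Submodule.mem_span_singleton.2 ⟨a, e⟩)
  have h := finrank_span_eq_card hli
  rw [Matrix.range_cons, Matrix.range_cons, Matrix.range_empty, Set.union_empty, Set.singleton_union,
    Fintype.card_fin] at h
  exact h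

theorem pair_sing {X : Type*} [AddCommGroup X] [Module F X] (R : QuadraticForm F X) {p y : X} (hp : R p = 0)
    (hy : R y = 0) (hpy : polar R p y = 0) : ∀ v ∈ Submodule.span F ({p, y} : Set X), R v = 0 := fun v hv => by
  obtain ⟨a, b, rfl⟩ := Submodule.mem_span_pair.1 hv
  rw [map_add', Quad.map_smul', Quad.map_smul', hp, hy, polar_smul_left, polar_smul_right, hpy]
  simp

/-- a form on a small space with no totally isotropic plane -/
theorem ell_of (h2 : (2 : F) ≠ 0) {k : ℕ} {R : QuadraticForm F (Fin k → F)} (hR : (polarBilin R).Nondegenerate)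
    {f : (Fin k → F) → (Fin k → F) → F} {c : F} (hc : c ≠ 0) (hRf : ∀ x y, polar R x y = c * f x y)
    (h4 : k = 4 → ¬ Cfsg.Geo.IsPlusTypeOn (fun v : Fin k → F => f v v) ⊤) :
    finrank F (Fin k → F) ≤ 4 → ∀ p y, R p = 0 → R y = 0 → polar R p y = 0 → p ≠ 0 → y ∈ F ∙ p := by
  intro hk p y hp hy hpy hp0
  by_contra hm
  rw [Module.finrank_fintype_fun_eq_card, Fintype.card_fin] at hk
  have hS := pair_sing R hp hy hpy
  have h1 := two_mul_finrank_le hR hS
  rw [finrank_pair hp0 hm, Module.finrank_fintype_fun_eq_card, Fintype.card_fin] at h1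
  refine h4 (by omega) ⟨Submodule.span F ({p, y} : Set (Fin k → F)), le_top, fun v hv => ?_, ?_⟩
  · have h := hRf v v
    rw [polar_self', hS v hv, mul_zero] at h
    exact (mul_eq_zero.1 h.symm).resolve_left hc
  · rw [finrank_pair hp0 hm, finrank_top, Module.finrank_fintype_fun_eq_card, Fintype.card_fin]
    omega

/-- the stabiliser of a decomposition `O ⊗ O` with factors of different dimensions is maximal -/
theorem isMaximal_tensor (Q : QuadraticForm F (ι → F)) (hQ : (polarBilin Q).Nondegenerate)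
    (hodd : Odd (Fintype.card F)) (h1 : 3 ≤ n₁) (h2 : 3 ≤ n₂) (hne : n₁ ≠ n₂) (h5 : 5 ≤ max n₁ n₂)
    (hq₁ : n₁ = 3 → n₁ < n₂ → 5 ≤ Fintype.card F) (hq₂ : n₂ = 3 → n₂ < n₁ → 5 ≤ Fintype.card F)
    (e : ι ≃ Fin n₁ × Fin n₂) (P : GL ι F) (f₁ : (Fin n₁ → F) → (Fin n₁ → F) → F)
    (f₂ : (Fin n₂ → F) → (Fin n₂ → F) → F) (hf₁ : Cfsg.Geo.IsSymmetricForm f₁) (hf₂ : Cfsg.Geo.IsSymmetricForm f₂)
    (hell₁ : n₁ = 4 → n₁ < n₂ → ¬ Cfsg.Geo.IsPlusTypeOn (fun v : Fin n₁ → F => f₁ v v) ⊤)
    (hell₂ : n₂ = 4 → n₂ < n₁ → ¬ Cfsg.Geo.IsPlusTypeOn (fun v : Fin n₂ → F => f₂ v v) ⊤)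
    (hT : Cfsg.Geo.IsTensorFormStructure id (QuadraticMap.polar Q) f₁ f₂ e P) :
    Cfsg.Geo.IsMaximalIn (Cfsg.Geo.omegaGL ⇑Q)
      (Cfsg.Geo.tensorProductSubgroup n₁ n₂ e P ⊓ Cfsg.Geo.omegaGL ⇑Q) := by
  classical
  have two : (2 : F) ≠ 0 := Ring.two_ne_zero fun h => by
    have h' := FiniteField.even_card_of_char_two h
    obtain ⟨r, hr⟩ := hodd
    omega
  have hcard : 5 ≤ Fintype.card ι := by
    rw [Fintype.card_congr e, Fintype.card_prod, Fintype.card_fin, Fintype.card_fin]
    have := Nat.mul_le_mul h1 h2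
    omega
  obtain ⟨c, hc, hform⟩ := NotMax.form_pureT id (fun _ _ => rfl) hT
    (NotMax.formOfGram_bilinear id hf₁.bilinear.add_left hf₁.bilinear.smul_left hf₁.bilinear.add_right
      fun c v x => hf₁.bilinear.smul_right c v x)
    (NotMax.formOfGram_bilinear id hf₂.bilinear.add_left hf₂.bilinear.smul_left hf₂.bilinear.add_right
      fun c v x => hf₂.bilinear.smul_right c v x)
  have hmem := mem_iff e P (by omega : 1 ≤ n₁) (by omega : 1 ≤ n₂)
  have hlift : ∀ (a : (Fin n₁ → F) ≃ₗ[F] (Fin n₁ → F)) (b : (Fin n₂ → F) ≃ₗ[F] (Fin n₂ → F)),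
      ∃ g : (ι → F) ≃ₗ[F] (ι → F), ∀ x y, g (NotMax.pureT e P x y) = NotMax.pureT e P (a x) (b y) := fun a b => by
    obtain ⟨G, -, hG⟩ := SpThree.exists_of_pair e P ((glEquiv (Fin n₁) F).symm a) ((glEquiv (Fin n₂) F).symm b)
    refine ⟨glEquiv ι F G, fun x y => ?_⟩
    rw [← symm_mulVec (glEquiv ι F G), MulEquiv.symm_apply_apply, hG, symm_mulVec, symm_mulVec]
  have hd : ∀ k : ℕ, finrank F (Fin k → F) = k := fun k => by rw [Module.finrank_fintype_fun_eq_card, Fintype.card_fin]
  rcases Nat.lt_or_gt_of_ne hne with hlt | hlt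
  · obtain ⟨QU, hU, hQU⟩ := exists_quad two hf₁ hc
    obtain ⟨QW, hW, hQW⟩ := exists_quad two hf₂ (one_ne_zero (α := F))
    refine isMaximal_of_frame (QU := QU) (QW := QW) (pt := NotMax.pureT e P) ?_ (by rw [hd, hd]; exact hlt) hcard _ hmem
    exact
      { two := two
        nd := hQ
        ndU := hU
        ndW := hW
        dimU := by rw [hd]; exact h1
        dimW := by rw [hd]; omega
        dimle := by rw [hd, hd]; exact hlt.le
        q3 := fun h => by rw [Nat.card_eq_fintype_card]; exact hq₁ (by rwa [hd] at h) hlt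
        ell := ell_of two hU hc hQU fun h => hell₁ h hlt
        prod := fun u w u' w' => by rw [hform, hQU, hQW]; ring
        span := SpThree.span_pureT e P
        lift := hlift }
  · obtain ⟨QU, hU, hQU⟩ := exists_quad two hf₂ hc
    obtain ⟨QW, hW, hQW⟩ := exists_quad two hf₁ (one_ne_zero (α := F))
    refine isMaximal_of_frame (QU := QU) (QW := QW) (pt := (NotMax.pureT e P).flip) ?_ (by rw [hd, hd]; exact hlt) hcard _
      fun g => (hmem g).trans (inN_flip _ g).symm
    exact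
      { two := two
        nd := hQ
        ndU := hU
        ndW := hW
        dimU := by rw [hd]; exact h2
        dimW := by rw [hd]; omega
        dimle := by rw [hd, hd]; exact hlt.le
        q3 := fun h => by rw [Nat.card_eq_fintype_card]; exact hq₂ (by rwa [hd] at h) hlt
        ell := ell_of two hU hc hQU fun h => hell₂ h hlt
        prod := fun u w u' w' => by rw [LinearMap.flip_apply, LinearMap.flip_apply, hform, hQU, hQW]; ring
        span := by
          refine eq_top_iff.2 (le_of_eq_of_le (SpThree.span_pureT e P).symm (Submodule.span_mono ?_))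
          rintro _ ⟨p, rfl⟩
          exact ⟨(p.2, p.1), rfl⟩
        lift := fun a b => (hlift b a).imp fun g hg => fun x y => hg y x }

end Cfsg.Agent.ClassicalMax.OTensor
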