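import Cfsg.Agent.ClassicalMax.OTensor.Realise

/-!
An overgroup of the stabiliser of an orthogonal tensor decomposition either contains every Siegel transformation or
preserves the decomposition.
-/

set_option autoImplicit false
set_option linter.unusedSectionVars false
set_option linter.style.haveILetI false

namespace Cfsg.Agent.ClassicalMax.OTensor

open Module QuadraticMap Cfsg.Agent.Classical Cfsg.Agent.Classical.Quad Cfsg.Agent.ClassicalMax

variable {F U W V : Type*} [Field F] [Finite F] [AddCommGroup U] [Module F U] [FiniteDimensional F U]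
  [AddCommGroup W] [Module F W] [FiniteDimensional F W] [AddCommGroup V] [Module F V] [FiniteDimensional F V]
  {Q : QuadraticForm F V} {QU : QuadraticForm F U} {QW : QuadraticForm F W} {pt : U →ₗ[F] W →ₗ[F] V}
  {H : Subgroup (oG Q)}

theorem scalar_of_eigen (A : U →ₗ[F] U) (h : ∀ u, A u ∈ F ∙ u) : ∃ a : F, ∀ u, A u = a • u := by
  obtain ⟨a, ha⟩ := A.exists_eq_smul_id_of_forall_notLinearIndependent fun v hv => by
    obtain ⟨k, hk⟩ := Submodule.mem_span_singleton.1 (h v)
    have := (LinearIndependent.pair_iff.1 hv k (-1) (by rw [hk]; module)).2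
    exact one_ne_zero (neg_eq_zero.1 this)
  exact ⟨a, fun u => by rw [ha]; simp⟩

theorem plane_of_pair {c d : W} (hc : QW c = 0) (hd : QW d = 0) (hcd : polar QW c d = 0) (hc0 : c ≠ 0)
    (h : d ∉ F ∙ c) : Plane QW c d := by
  refine ⟨hc, hd, hcd, fun a b hab => ?_⟩
  by_cases hb : b = 0
  · subst hb
    rw [zero_smul, add_zero, smul_eq_zero] at hab
    exact ⟨hab.resolve_right hc0, rfl⟩
  · exact absurd (Submodule.mem_span_singleton.2 ⟨-(b⁻¹ * a), by
      rw [neg_smul, mul_smul, eq_neg_of_add_eq_zero_left hab, smul_neg, neg_neg, inv_smul_smul₀ hb]⟩) h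

namespace Frame

variable (hF : Frame Q QU QW pt)
include hF

theorem exists_plane : ∃ c d, Plane QW c d := by
  have hn := hF.dimW
  obtain ⟨c, hc0, hc⟩ := exists_singular QW (by omega)
  obtain ⟨d, hd, hcd, hdc⟩ := exists_second hF.ndW hn hc0 hc
  exact ⟨c, d, plane_of_pair hc hd hcd hc0 hdc⟩

theorem kK_scalar' (hO : Over pt H) (hne : ¬ eo Q ≤ H) {g : oG Q} (hg : g ∈ H) {c d c' d' : W} (hp : Plane QW c d)
    (hp' : Plane QW c' d') : ∃ κ : F, ∀ x, hF.kK g c d c' d' x = κ • x := by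
  obtain ⟨κ, hκ⟩ := hF.kK_scalar hO hne _ g c d c' d' hg hp hp' rfl
  exact ⟨κ, fun x => by rw [hκ, Module.algebraMap_end_apply]⟩

/-- a moved root element of a singular plane acts on one factor alone, the second if it is larger -/
theorem moved_root_or (hO : Over pt H) (hne : ¬ eo Q ≤ H) {g : oG Q} (hg : g ∈ H) {c' d' : W}
    (hp' : Plane QW c' d') :
    (∃ B : W →ₗ[F] W, ∀ u w, g.1 (hF.io c' d' (jJ F U (hF.iT c' d' ((g⁻¹).1 (pt u w))))) = pt u (B w)) ∨
      finrank F U = finrank F W ∧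
        ∃ A : U →ₗ[F] U, ∀ u w, g.1 (hF.io c' d' (jJ F U (hF.iT c' d' ((g⁻¹).1 (pt u w))))) = pt (A u) w := by
  have h2 := hF.two
  have hU := hF.dimU
  have hW := hF.dimW
  set Y : V →ₗ[F] V := g.1.toLinearMap ∘ₗ hF.io c' d' ∘ₗ jJ F U ∘ₗ hF.iT c' d' ∘ₗ (g⁻¹).1.toLinearMap with hYd
  suffices (∃ B : W →ₗ[F] W, ∀ u w, Y (pt u w) = pt u (B w)) ∨
      finrank F U = finrank F W ∧ ∃ A : U →ₗ[F] U, ∀ u w, Y (pt u w) = pt (A u) w from this
  have hY2 : ∀ z, Y (Y z) = 0 := fun z => by
    simp only [hYd, LinearMap.comp_apply, LinearEquiv.coe_coe, oG_inv_apply, hF.iT_io hp', map_zero]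
  have hskew : ∀ z z', polar Q (Y z) z' = -polar Q z (Y z') := fun z z' => by
    simp only [hYd, LinearMap.comp_apply, LinearEquiv.coe_coe]
    have e1 : ∀ a b, polar Q (g.1 a) b = polar Q a ((g⁻¹).1 b) := fun a b => by
      rw [← polar_oG g a, oG_apply_inv]
    have hc : ∀ a b : U × U, bb QU a b = bb QU b a := fun a b => by
      simp only [bb, polar_comm QU a.1, polar_comm QU a.2]
    rw [e1, polar_comm Q _ ((g⁻¹).1 z'), hF.polar_io_bb, hc, bb_J, ← hF.polar_io_bb,
      ← polar_oG g ((g⁻¹).1 z) _, oG_apply_inv]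
  -- on singular planes
  have hplane : ∀ c d, Plane QW c d → ∃ κ : F, ∀ u u', polar Q (pt u c) (Y (pt u' c)) = 0 ∧
      polar Q (pt u c) (Y (pt u' d)) = -κ * polar QU u u' := fun c d hp => by
    obtain ⟨κ, hκ⟩ := hF.kK_scalar' hO hne hg hp hp'
    have e : ∀ y, hF.iT c d (Y (hF.io c d y)) = -(κ • jJ F U y) := fun y => by
      have h1 := congrArg (jJ F U) (hκ y)
      simp only [kK, LinearMap.comp_apply, jJ_jJ, map_smul] at h1
      rw [← h1, neg_neg]
      rfl
    refine ⟨κ, fun u u' => ⟨?_, ?_⟩⟩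
    · have h1 := e (u', 0)
      rw [hF.io_apply, map_zero pt, LinearMap.zero_apply, add_zero, hF.iT_apply] at h1
      have h3 := congrArg Prod.fst h1
      simp only [jJ_apply, Prod.fst_neg, Prod.smul_fst, smul_zero, neg_zero] at h3
      rw [← hF.polar_pW, h3]
      simp [polar]
    · have h1 := e (0, u')
      rw [hF.io_apply, map_zero pt, LinearMap.zero_apply, zero_add, hF.iT_apply] at h1
      have h3 := congrArg Prod.fst h1
      simp only [jJ_apply, Prod.fst_neg, Prod.smul_fst] at h3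
      rw [← hF.polar_pW, h3, polar_neg_left, polar_smul_left, smul_eq_mul, polar_comm QU u' u, neg_mul]
  have hdiag : ∀ m, QW m = 0 → ∀ u u', polar Q (pt u m) (Y (pt u' m)) = 0 := fun m hm u u' => by
    rcases eq_or_ne m 0 with rfl | hm0
    · simp [polar]
    obtain ⟨r, hr, hmr, hrm⟩ := exists_second hF.ndW hW hm0 hm
    obtain ⟨κ, hκ⟩ := hplane m r (plane_of_pair hm hr hmr hm0 hrm)
    exact (hκ u u').1
  obtain ⟨u₁, hu₁⟩ := exists_aniso hF.ndU (by omega : 0 < finrank F U)
  obtain ⟨w₀, hw₀⟩ := exists_aniso hF.ndW (by omega : 0 < finrank F W)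
  set u₀ := (2 * QU u₁)⁻¹ • u₁ with hu₀
  have hu01 : polar QU u₀ u₁ = 1 := by
    rw [hu₀, polar_smul_left, polar_self', smul_eq_mul, inv_mul_cancel₀ (mul_ne_zero h2 hu₁)]
  let G : U → U → (W →ₗ[F] W →ₗ[F] F) := fun u u' => (polarBilin Q).compl₁₂ (pt u) (Y ∘ₗ pt u')
  have hG : ∀ u u' w w', G u u' w w' = polar Q (pt u w) (Y (pt u' w')) := fun u u' w w' => rfl
  have hlam : ∀ u u', ∃ l : F, ∀ w w', G u u' w w' = polar QU u u' * G u₀ u₁ w w' + l * polar QW w w' := by
    intro u u'
    obtain ⟨l, hl⟩ := polar_multiple h2 hF.ndW hW (G u u' - polar QU u u' • G u₀ u₁) fun m m' hm hm' hmm => by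
      simp only [LinearMap.sub_apply, LinearMap.smul_apply, hG, smul_eq_mul]
      rcases eq_or_ne m 0 with rfl | hm0
      · simp [polar]
      by_cases hd : m' ∈ F ∙ m
      · obtain ⟨k, rfl⟩ := Submodule.mem_span_singleton.1 hd
        simp only [map_smul, polar_smul_right, hdiag m hm, smul_zero, mul_zero, sub_zero]
      · obtain ⟨κ, hκ⟩ := hplane m m' (plane_of_pair hm hm' hmm hm0 hd)
        rw [(hκ u u').2, (hκ u₀ u₁).2, hu01]
        ring
    refine ⟨l, fun w w' => ?_⟩
    have := hl w w'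
    simp only [LinearMap.sub_apply, LinearMap.smul_apply, smul_eq_mul] at this
    linear_combination this
  have hs : (2 * QW w₀) ≠ 0 := mul_ne_zero h2 hw₀
  let B : W →ₗ[F] W := hF.pU u₀ ∘ₗ Y ∘ₗ pt u₁
  let A : U →ₗ[F] U := (2 * QW w₀)⁻¹ •
    (hF.pW w₀ ∘ₗ Y ∘ₗ pt.flip w₀ - polar QW w₀ (B w₀) • LinearMap.id)
  have hB : ∀ w w', polar QW w (B w') = G u₀ u₁ w w' := fun w w' => by
    rw [polar_comm, hG]
    exact hF.polar_pU _ _ _
  have hYp : ∀ u w, Y (pt u w) = pt (A u) w + pt u (B w) := fun u' w' => hF.vext fun u w => by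
    obtain ⟨l, hl⟩ := hlam u u'
    rw [polar_add_right, hF.prod, hF.prod, hB, ← hG, hl w w']
    have h3 := hl w₀ w₀
    rw [← hB, polar_self', hG, ← hF.polar_pW] at h3
    have e : polar QU u (A u') = l := by
      simp only [A, LinearMap.smul_apply, LinearMap.sub_apply, LinearMap.comp_apply, LinearMap.flip_apply,
        LinearMap.id_apply, polar_smul_right, polar_sub_right, smul_eq_mul]
      rw [polar_comm QU u (hF.pW _ _), h3]
      field_simp
      ring
    rw [e]
    ring
  clear_value A B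
  by_cases hAs : ∃ a : F, ∀ u, A u = a • u
  · obtain ⟨a, ha⟩ := hAs
    refine Or.inl ⟨B + a • LinearMap.id, fun u w => ?_⟩
    rw [hYp, ha, LinearMap.add_apply, LinearMap.smul_apply, LinearMap.id_apply, map_add, map_smul pt,
      LinearMap.smul_apply, ← map_smul (pt u), add_comm]
  right
  obtain ⟨u, hu⟩ : ∃ u, A u ∉ F ∙ u := by
    by_contra! h
    exact hAs (scalar_of_eigen A h)
  obtain ⟨φ, hφu, hφA⟩ := exists_perp hF.ndU hu
  have hBs : ∀ w, B w = (-(2 : F)⁻¹ * polar QU φ (A (A u))) • w := fun w => by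
    have h3 := congrArg (hF.pU φ) (hY2 (pt u w))
    simp only [hYp, map_add, hF.pU_pt, map_zero] at h3
    rw [polar_comm QU φ u, hφu u (Submodule.mem_span_singleton_self u), polar_comm QU φ (A u), hφA, one_smul,
      zero_smul, add_zero] at h3
    have h4 : (2 : F) • B w = -(polar QU φ (A (A u)) • w) := eq_neg_of_add_eq_zero_right (by
      rw [two_smul, ← add_assoc]; exact h3)
    calc B w = (2 : F)⁻¹ • ((2 : F) • B w) := (inv_smul_smul₀ h2 _).symm
      _ = _ := by rw [h4]; module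
  set β := -(2 : F)⁻¹ * polar QU φ (A (A u))
  set A' := A + β • LinearMap.id with hA'
  have hYA : ∀ u w, Y (pt u w) = pt (A' u) w := fun u w => by
    rw [hYp, hBs, hA', LinearMap.add_apply, LinearMap.smul_apply, LinearMap.id_apply, map_add, map_smul,
      map_smul, LinearMap.add_apply, LinearMap.smul_apply]
  have hA'0 : A' ≠ 0 := fun e => hAs ⟨-β, fun u => by
    have := LinearMap.congr_fun e u
    rw [hA', LinearMap.add_apply, LinearMap.smul_apply, LinearMap.id_apply, LinearMap.zero_apply] at this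
    rw [neg_smul]
    exact eq_neg_of_add_eq_zero_left this⟩
  have hA'd : ∀ u, polar QU (A' u) u = 0 := fun u => by
    have h3 := hskew (pt u w₀) (pt u w₀)
    rw [hYA, hF.prod, hF.prod, polar_comm QU u, polar_self'] at h3
    exact (mul_eq_zero.1 (show 2 * (2 * QW w₀) * polar QU (A' u) u = 0 by linear_combination h3)).resolve_left
      (mul_ne_zero h2 hs)
  obtain ⟨v₁, hv₁⟩ : ∃ v₁, A' v₁ ≠ 0 := by
    by_contra! h
    exact hA'0 (LinearMap.ext h)
  set p := A' v₁ with hp
  obtain ⟨v₂, hv₂⟩ : ∃ v₂, A' v₂ ∉ F ∙ p := by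
    by_contra! h
    obtain ⟨f, -, hf⟩ := exists_perp hF.ndU (S := ⊥) (x := p) (by simpa using hv₁)
    have hpf : polar QU p f ≠ 0 := by rw [hf]; exact one_ne_zero
    obtain ⟨k, hk⟩ := Submodule.mem_span_singleton.1 (h f)
    have h3 := hA'd f
    rw [← hk, polar_smul_left, smul_eq_mul, mul_eq_zero] at h3
    have hk0 := h3.resolve_right hpf
    have h4 := hA'd (v₁ + f)
    rw [map_add, ← hk, hk0, zero_smul, add_zero, polar_add_right, ← hp,
      show polar QU p v₁ = 0 from hA'd v₁, zero_add] at h4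
    exact hpf h4
  have hp2 : p ∉ F ∙ A' v₂ := fun hm => by
    obtain ⟨k, hk⟩ := Submodule.mem_span_singleton.1 hm
    rcases eq_or_ne k 0 with rfl | hk0
    · exact hv₁ (by rw [← hk, zero_smul])
    · exact hv₂ (Submodule.mem_span_singleton.2 ⟨k⁻¹, by rw [← hk, inv_smul_smul₀ hk0]⟩)
  obtain ⟨φ₁, h11, h12⟩ := exists_perp hF.ndU hp2
  obtain ⟨φ₂, h21, h22⟩ := exists_perp hF.ndU hv₂
  have hle : finrank F (W × W) ≤ finrank F (LinearMap.range Y) := by
    refine LinearMap.finrank_le_finrank_of_injective (f := LinearMap.codRestrict (LinearMap.range Y)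
      (Y ∘ₗ (pt v₁).coprod (pt v₂)) fun x => LinearMap.mem_range_self Y _) fun x y e => ?_
    have e' : ∀ x : W × W, (Y ∘ₗ (pt v₁).coprod (pt v₂)) x = pt p x.1 + pt (A' v₂) x.2 := fun x => by
      rw [LinearMap.comp_apply, LinearMap.coprod_apply, map_add, hYA, hYA]
    have h3 : pt p x.1 + pt (A' v₂) x.2 = pt p y.1 + pt (A' v₂) y.2 := by
      rw [← e', ← e']; exact congrArg Subtype.val e
    have hA1 : polar QU φ₁ (A' v₂) = 0 := by rw [polar_comm]; exact h11 _ (Submodule.mem_span_singleton_self _)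
    have hA2 : polar QU φ₂ p = 0 := by rw [polar_comm]; exact h21 _ (Submodule.mem_span_singleton_self _)
    refine Prod.ext ?_ ?_
    · have := congrArg (hF.pU φ₁) h3
      simpa only [map_add, hF.pU_pt, polar_comm QU φ₁ p, h12, hA1, one_smul, zero_smul, add_zero] using this
    · have := congrArg (hF.pU φ₂) h3
      simpa only [map_add, hF.pU_pt, polar_comm QU φ₂ (A' v₂), h22, hA2, one_smul, zero_smul, zero_add] using this
  have hle2 : finrank F (LinearMap.range Y) ≤ finrank F (U × U) := by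
    refine (Submodule.finrank_mono (t := LinearMap.range (g.1.toLinearMap ∘ₗ hF.io c' d')) ?_).trans
      (LinearMap.finrank_range_le _)
    rintro _ ⟨z, rfl⟩
    exact ⟨_, rfl⟩
  rw [finrank_prod] at hle hle2
  have := hF.dimle
  exact ⟨by omega, A', hYA⟩

/-- a moved root element of a singular plane acts on the second factor alone when that is larger -/
theorem moved_root (hlt : finrank F U < finrank F W) (hO : Over pt H) (hne : ¬ eo Q ≤ H) {g : oG Q} (hg : g ∈ H)
    {c' d' : W} (hp' : Plane QW c' d') :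
    ∃ B : W →ₗ[F] W, ∀ u w, g.1 (hF.io c' d' (jJ F U (hF.iT c' d' ((g⁻¹).1 (pt u w))))) = pt u (B w) :=
  (hF.moved_root_or hO hne hg hp').resolve_right fun h => hlt.ne h.1

/-- a map of the second factor is carried to a map of the second factor -/
def Good (_hF : Frame Q QU QW pt) (g : oG Q) (N : W →ₗ[F] W) : Prop :=
  ∃ (T : V →ₗ[F] V) (B : W →ₗ[F] W), (∀ u w, T (pt u w) = pt u (B w)) ∧
    ∀ u w, g.1 (pt u (N w)) = T (g.1 (pt u w))

theorem good_comp {g : oG Q} {N N' : W →ₗ[F] W} (h : hF.Good g N) (h' : hF.Good g N') :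
    hF.Good g (N ∘ₗ N') := by
  obtain ⟨T, B, hT, hN⟩ := h
  obtain ⟨T', B', hT', hN'⟩ := h'
  exact ⟨T ∘ₗ T', B ∘ₗ B', fun u w => by simp [hT, hT'], fun u w => by simp [hN, hN']⟩

theorem good_skP (hlt : finrank F U < finrank F W) (hO : Over pt H) (hne : ¬ eo Q ≤ H) {g : oG Q} (hg : g ∈ H) {c d : W} (hp : Plane QW c d) :
    hF.Good g (skP QW c d) := by
  obtain ⟨B, hB⟩ := hF.moved_root hlt hO hne hg hp
  refine ⟨g.1.toLinearMap ∘ₗ hF.io c d ∘ₗ jJ F U ∘ₗ hF.iT c d ∘ₗ (g⁻¹).1.toLinearMap, B, hB, fun u w => ?_⟩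
  simp only [LinearMap.comp_apply, LinearEquiv.coe_coe, oG_inv_apply, hF.iT_apply, hF.pW_pt, jJ_apply, hF.io_apply,
    skP_apply, map_sub, map_smul, map_neg, LinearMap.smul_apply, LinearMap.neg_apply, ← sub_eq_add_neg]

theorem good_square (hlt : finrank F U < finrank F W) (hO : Over pt H) (hne : ¬ eo Q ≤ H) {g : oG Q} (hg : g ∈ H) {y : W} (hy0 : y ≠ 0)
    (hy : QW y = 0) : hF.Good g ((polarBilin QW y).smulRight y) := by
  obtain ⟨f, hf, hyf⟩ := exists_hyp_pair hF.ndW hy0 hy
  have hd := finrank_perpPair hy hf hyf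
  have hnd := nondeg_restrictPair hF.ndW hy hf hyf
  have hn := hF.dimW
  obtain ⟨v, hv0, hv⟩ := exists_singular (restrictPair QW y f) (by omega)
  obtain ⟨r, hr, hvr⟩ := exists_hyp_pair hnd hv0 hv
  have hv' : QW (v : W) = 0 := hv
  have hr' : QW (r : W) = 0 := hr
  have hvr' : polar QW (v : W) (r : W) = 1 := hvr
  have hyv := (mem_perpPair.1 v.2).1
  have hyr := (mem_perpPair.1 r.2).1
  have hp1 : Plane QW y (v : W) := plane_of_pair hy hv' hyv hy0 fun hm => by
    obtain ⟨k, hk⟩ := Submodule.mem_span_singleton.1 hm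
    rw [← hk, polar_smul_left, hyr, smul_zero] at hvr'
    exact zero_ne_one hvr'
  have hp2 : Plane QW (r : W) y := plane_of_pair hr' hy (by rw [polar_comm, hyr])
    (fun e => by rw [e] at hvr'; simp [polar] at hvr') fun hm => by
      obtain ⟨k, hk⟩ := Submodule.mem_span_singleton.1 hm
      rcases eq_or_ne k 0 with rfl | hk0
      · exact hy0 (by rw [← hk, zero_smul])
      have h := congrArg (polar QW (v : W)) hk
      rw [polar_smul_right, hvr', polar_comm QW (v : W) y, hyv, smul_eq_mul, mul_one] at h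
      exact hk0 h
  have e : skP QW y (v : W) ∘ₗ skP QW (r : W) y = (polarBilin QW y).smulRight y := LinearMap.ext fun w => by
    simp only [LinearMap.comp_apply, skP_apply, polar_sub_right, polar_smul_right, polar_sing hy, hyr,
      polar_comm QW (v : W) y, hyv, hvr', smul_zero, sub_zero, zero_smul, smul_eq_mul, mul_one, mul_zero]
    rfl
  exact e ▸ hF.good_comp (hF.good_skP hlt hO hne hg hp1) (hF.good_skP hlt hO hne hg hp2)

/-- with the singular partners of one vector, the idempotents of pairs -/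
theorem good_idem (hlt : finrank F U < finrank F W) (hO : Over pt H) (hne : ¬ eo Q ≤ H) {g : oG Q} (hg : g ∈ H) {p y : W} (hp : QW p = 0)
    (hy : QW y = 0) (hpy : polar QW p y = 1) : hF.Good g ((polarBilin QW p).smulRight y) := by
  have hp0 : p ≠ 0 := fun e => by rw [e] at hpy; simp [polar] at hpy
  have hy0 : y ≠ 0 := fun e => by rw [e] at hpy; simp [polar] at hpy
  convert hF.good_comp (hF.good_square hlt hO hne hg hy0 hy) (hF.good_square hlt hO hne hg hp0 hp) using 1
  refine LinearMap.ext fun w => ?_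
  simp [polar_comm QW y p, hpy]

end Frame

/-- an element carrying the idempotents at a singular vector to maps of one factor carries pure tensors to pure
tensors -/
theorem Frame.maps_of_idem (hF : Frame Q QU QW pt) {U' W' : Type*} [AddCommGroup U'] [Module F U']
    [FiniteDimensional F U'] [AddCommGroup W'] [Module F W'] [FiniteDimensional F W'] {QU' : QuadraticForm F U'}
    {QW' : QuadraticForm F W'} {pt' : U' →ₗ[F] W' →ₗ[F] V} (hT' : Core Q QU' QW' pt')
    (hd : finrank F U' = finrank F U) {g : oG Q} {p : W} (hp0 : p ≠ 0) (hp : QW p = 0)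
    (hgood : ∀ y, QW y = 0 → polar QW p y = 1 → ∃ (T : V →ₗ[F] V) (B : W' →ₗ[F] W'),
      (∀ u w, T (pt' u w) = pt' u (B w)) ∧
        ∀ u w, g.1 (pt u ((polarBilin QW p).smulRight y w)) = T (g.1 (pt u w))) :
    ∃ (α : U →ₗ[F] U') (β : W →ₗ[F] W'), ∀ u w, g.1 (pt u w) = pt' (α u) (β w) := by
  have h2 := hF.two
  have hU := hF.dimU
  have hW := hF.dimW
  obtain ⟨y, hy, hpy⟩ := exists_hyp_pair hF.ndW hp0 hp
  obtain ⟨T, B, hT, hTg⟩ := hgood y hy hpy
  have hS : ∀ w, (polarBilin QW p).smulRight y w = polar QW p w • y := fun w => rfl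
  let φ : U →ₗ[F] V := g.1.toLinearMap ∘ₗ pt.flip y
  have hφ : ∀ u, φ u = g.1 (pt u y) := fun u => rfl
  have hTφ : ∀ u, T (φ u) = φ u := fun u => by
    rw [hφ, ← hTg, hS, hpy, one_smul]
  have hφinj : Function.Injective φ := fun u u' e => by
    have := congrArg (hF.pW p) (g.1.injective e : pt u y = pt u' y)
    rwa [hF.pW_pt, hF.pW_pt, hpy, one_smul, one_smul] at this
  have hrange : ∀ z, T z ∈ LinearMap.range φ := fun z => by
    obtain ⟨z, rfl⟩ : ∃ z', g.1 z' = z := ⟨_, oG_apply_inv g z⟩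
    refine ⟨hF.pW p z, LinearMap.congr_fun (f := φ ∘ₗ hF.pW p) (g := T ∘ₗ g.1.toLinearMap) (hF.ext_pure fun u w => ?_) z⟩
    simp only [LinearMap.comp_apply, LinearEquiv.coe_coe, hF.pW_pt, map_smul, hφ]
    rw [← hTg, hS, map_smul (pt u), map_smul g.1]
    simp [hφ]
  obtain ⟨w₁, hw₁⟩ : ∃ w, B w ≠ 0 := by
    by_contra! h
    have hT0 : T = 0 := hT'.ext_pure fun u w => by rw [hT, h, map_zero, LinearMap.zero_apply]
    obtain ⟨u, hu⟩ := exists_aniso hF.ndU (by omega : 0 < finrank F U)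
    have hu0 : u ≠ 0 := fun e => hu (by rw [e, QuadraticMap.map_zero])
    exact hu0 (hφinj (by rw [← hTφ, hT0, LinearMap.zero_apply, map_zero]))
  set z := B w₁ with hz
  have hline : ∀ w, B w ∈ F ∙ z := by
    intro w
    by_contra hm
    have hzm : z ∉ F ∙ B w := fun h => by
      obtain ⟨k, hk⟩ := Submodule.mem_span_singleton.1 h
      rcases eq_or_ne k 0 with rfl | hk0
      · exact hw₁ (by rw [← hk, zero_smul])
      · exact hm (Submodule.mem_span_singleton.2 ⟨k⁻¹, by rw [← hk, inv_smul_smul₀ hk0]⟩)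
    obtain ⟨ζ₁, h11, h12⟩ := exists_perp hT'.ndW hzm
    obtain ⟨ζ₂, h21, h22⟩ := exists_perp hT'.ndW hm
    have hle : finrank F (U' × U') ≤ finrank F (LinearMap.range φ) := by
      refine LinearMap.finrank_le_finrank_of_injective (f := LinearMap.codRestrict (LinearMap.range φ)
        (T ∘ₗ (pt'.flip w₁).coprod (pt'.flip w)) fun x => hrange _) fun x x' e => ?_
      have e' : ∀ x : U' × U', (T ∘ₗ (pt'.flip w₁).coprod (pt'.flip w)) x = pt' x.1 z + pt' x.2 (B w) := fun x => by
        rw [LinearMap.comp_apply, LinearMap.coprod_apply, map_add, LinearMap.flip_apply, LinearMap.flip_apply,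
          hT, hT]
      have h3 : pt' x.1 z + pt' x.2 (B w) = pt' x'.1 z + pt' x'.2 (B w) := by
        rw [← e', ← e']; exact congrArg Subtype.val e
      have hA1 : polar QW' ζ₁ (B w) = 0 := by rw [polar_comm]; exact h11 _ (Submodule.mem_span_singleton_self _)
      have hA2 : polar QW' ζ₂ z = 0 := by rw [polar_comm]; exact h21 _ (Submodule.mem_span_singleton_self _)
      refine Prod.ext ?_ ?_
      · have := congrArg (hT'.pW ζ₁) h3
        simpa only [map_add, hT'.pW_pt, polar_comm QW' ζ₁ z, h12, hA1, one_smul, zero_smul, add_zero] using this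
      · have := congrArg (hT'.pW ζ₂) h3
        simpa only [map_add, hT'.pW_pt, polar_comm QW' ζ₂ (B w), h22, hA2, one_smul, zero_smul, zero_add] using this
    rw [finrank_prod, LinearMap.finrank_range_of_inj hφinj] at hle
    omega
  obtain ⟨ζ, -, hζ⟩ := exists_perp hT'.ndW (S := ⊥) (x := z) (by simpa using hw₁)
  set α : U →ₗ[F] U' := hT'.pW ζ ∘ₗ φ with hα
  have hTz : ∀ x, T x = pt' (hT'.pW ζ (T x)) z := fun x => by
    refine LinearMap.congr_fun (f := T) (g := pt'.flip z ∘ₗ hT'.pW ζ ∘ₗ T) (hT'.ext_pure fun u w => ?_) x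
    obtain ⟨k, hk⟩ := Submodule.mem_span_singleton.1 (hline w)
    simp only [LinearMap.comp_apply, LinearMap.flip_apply, hT, ← hk, hT'.pW_pt, map_smul, LinearMap.smul_apply,
      polar_smul_right, polar_comm QW' ζ z, hζ, smul_eq_mul, mul_one, one_smul]
  have hφz : ∀ u, φ u = pt' (α u) z := fun u => by
    conv_lhs => rw [← hTφ, hTz, hTφ]
    rfl
  let S : Submodule F W :=
    { carrier := {w | ∃ z', ∀ u, g.1 (pt u w) = pt' (α u) z'}
      zero_mem' := ⟨0, fun u => by simp⟩
      add_mem' := fun {a b} ⟨x, hx⟩ ⟨x', hx'⟩ => ⟨x + x', fun u => by rw [map_add, map_add, hx, hx', map_add]⟩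
      smul_mem' := fun k a ⟨x, hx⟩ => ⟨k • x, fun u => by rw [map_smul, map_smul, hx, map_smul]⟩ }
  have hStop : S = ⊤ := top_of_partners h2 hF.ndW (by omega) hp0 hp S fun d hd hpd => by
    obtain ⟨T', B', hTB', hTg'⟩ := hgood d hd hpd
    refine ⟨B' z, fun u => ?_⟩
    have h3 := hTg' u y
    rw [show (polarBilin QW p).smulRight d y = polar QW p y • d from rfl, hpy, one_smul, ← hφ, hφz, hTB'] at h3
    exact h3
  obtain ⟨u₀, hu₀⟩ := exists_aniso hF.ndU (by omega : 0 < finrank F U)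
  have hα0 : α u₀ ≠ 0 := fun e => by
    have : u₀ = 0 := hφinj (by rw [hφz, e, map_zero, LinearMap.zero_apply, map_zero])
    exact hu₀ (by rw [this, QuadraticMap.map_zero])
  obtain ⟨ψ, -, hψ⟩ := exists_perp hT'.ndU (S := ⊥) (x := α u₀) (by simpa using hα0)
  refine ⟨α, hT'.pU ψ ∘ₗ g.1.toLinearMap ∘ₗ pt u₀, fun u w => ?_⟩
  obtain ⟨z', hz'⟩ := (hStop ▸ Submodule.mem_top : w ∈ S)
  show g.1 (pt u w) = pt' (α u) (hT'.pU ψ (g.1 (pt u₀ w)))
  rw [hz' u, hz' u₀, hT'.pU_pt,
    polar_comm QU' ψ, hψ, one_smul]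

/-- every element preserves the decomposition -/
theorem Over.inN (hO : Over pt H) (hF : Frame Q QU QW pt) (hlt : finrank F U < finrank F W) (hne : ¬ eo Q ≤ H)
    {g : oG Q} (hg : g ∈ H) : InN pt g.1 := by
  have hW := hF.dimW
  obtain ⟨p, hp0, hp⟩ := exists_singular QW (by omega)
  exact hF.maps_of_idem hF.toCore rfl hp0 hp fun y hy hpy => hF.good_idem hlt hO hne hg hp hy hpy

namespace Frame

variable (hF : Frame Q QU QW pt)
include hF

/-- some element of the commutator subgroup does not preserve the decomposition -/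
theorem exists_not_inN : ∃ g ∈ commutator (oG Q), ¬ InN pt g.1 := by
  have hU := hF.dimU
  have h2 := hF.two
  obtain ⟨c, d, hp⟩ := hF.exists_plane
  obtain ⟨e, he0, he⟩ := exists_singular QU hU
  obtain ⟨e', he', hee⟩ := exists_hyp_pair hF.ndU he0 he
  obtain ⟨f, g₀, hcf, hdf, hcg, hdg⟩ := hp.exists_dual hF.ndW
  have hu : Q (pt e c) = 0 := hF.pure_sing he c
  have hh : polar Q (pt e c) (pt e' d) = 0 := by rw [hF.prod, hp.hcd, mul_zero]
  refine ⟨sO hu hh, sO_mem_commutator hF.nd (Or.inl (two_ne_card h2)) hu hh, fun ⟨a, b, hab⟩ => ?_⟩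
  set y := g₀ + f with hy
  have hcy : polar QW c y = 1 := by rw [hy, polar_add_right, hcg, hcf, zero_add]
  have hdy : polar QW d y = 1 := by rw [hy, polar_add_right, hdg, hdf, add_zero]
  have hval : (sO hu hh).1 (pt (e + e') y) = pt (e + e') y + pt e c - pt e' d := by
    rw [sO_apply, hF.prod, hF.prod, hF.pure_sing he' d, polar_comm QW y d, hdy, polar_comm QW y c, hcy,
      polar_add_left, polar_add_left, polar_sing he, polar_sing he', polar_comm QU e' e, hee]
    simp
    abel
  rw [hab] at hval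
  generalize hAe : a (e + e') = A at hval
  have h1 := congrArg (hF.pU e) hval
  have h3 := congrArg (hF.pU e') hval
  simp only [map_add, map_sub, LinearMap.add_apply, hF.pU_pt, polar_add_right, polar_sing he, polar_sing he', polar_comm QU e' e, hee,
    zero_smul, one_smul, zero_add, add_zero, sub_zero] at h1 h3
  have h1c := congrArg (polar QW c) h1
  have h3c := congrArg (polar QW c) h3
  simp only [polar_smul_right, polar_add_right, polar_sub_right, polar_sing hp.hc, hp.hcd, hcy, sub_zero,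
    add_zero, smul_eq_mul] at h1c h3c
  have hA : polar QU e A = polar QU e' A :=
    mul_right_cancel₀ (right_ne_zero_of_mul (h1c.symm ▸ one_ne_zero)) (h1c.trans h3c.symm)
  rw [hA, h3] at h1
  have h4 : (1 : F) • c + (1 : F) • d = 0 := by
    rw [one_smul, one_smul]
    rw [sub_eq_add_neg] at h1
    have := add_left_cancel h1
    rw [this, neg_add_cancel]
  exact one_ne_zero (hp.ind 1 1 h4).1

end Frame

end Cfsg.Agent.ClassicalMax.OTensor
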