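import Cfsg.Agent.ClassicalMax.OTensor.Symm

/-!
Elements supported on the two-dimensional part `U ⊗ ⟨c, d⟩` of a singular plane: either the group has every Siegel
transformation or the parameter is a multiple of the one of the Siegel transformation of the plane.
-/

set_option autoImplicit false
set_option linter.unusedSectionVars false
set_option linter.style.haveILetI false

namespace Cfsg.Agent.ClassicalMax.OTensor

open Module QuadraticMap Cfsg.Agent.Classical Cfsg.Agent.Classical.Quad Cfsg.Agent.ClassicalMax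

variable {F U W V : Type*} [Field F] [Finite F] [AddCommGroup U] [Module F U] [FiniteDimensional F U]
  [AddCommGroup W] [Module F W] [FiniteDimensional F W] [AddCommGroup V] [Module F V] [FiniteDimensional F V]
  {Q : QuadraticForm F V} {QU : QuadraticForm F U} {QW : QuadraticForm F W} {pt : U →ₗ[F] W →ₗ[F] V}
  {H : Subgroup (oG Q)}

/-- a basis of a totally singular plane -/
structure Plane (QW : QuadraticForm F W) (c d : W) : Prop where
  hc : QW c = 0
  hd : QW d = 0
  hcd : polar QW c d = 0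
  ind : ∀ a b : F, a • c + b • d = 0 → a = 0 ∧ b = 0

theorem Plane.left_ne {c d : W} (h : Plane QW c d) : c ≠ 0 := fun e =>
  one_ne_zero (h.ind 1 0 (by rw [e, smul_zero, zero_smul, add_zero])).1

theorem Plane.right_ne {c d : W} (h : Plane QW c d) : d ≠ 0 := fun e =>
  one_ne_zero (h.ind 0 1 (by rw [e, smul_zero, zero_smul, add_zero])).2

theorem Plane.exists_dual {c d : W} (h : Plane QW c d) (hW : (polarBilin QW).Nondegenerate) :
    ∃ f g, polar QW c f = 1 ∧ polar QW d f = 0 ∧ polar QW c g = 0 ∧ polar QW d g = 1 := by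
  have h1 : c ∉ F ∙ d := fun hm => by
    obtain ⟨a, ha⟩ := Submodule.mem_span_singleton.1 hm
    have h' := (h.ind 1 (-a) (by rw [← ha]; module)).1
    exact one_ne_zero h'
  have h2 : d ∉ F ∙ c := fun hm => by
    obtain ⟨a, ha⟩ := Submodule.mem_span_singleton.1 hm
    have h' := (h.ind (-a) 1 (by rw [← ha]; module)).2
    exact one_ne_zero h'
  obtain ⟨f, hf, hcf⟩ := exists_perp hW h1
  obtain ⟨g, hg, hdg⟩ := exists_perp hW h2
  exact ⟨f, g, hcf, hf d (Submodule.mem_span_singleton_self d), hg c (Submodule.mem_span_singleton_self c), hdg⟩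

variable (F U) in
/-- the standard skew map of two components -/
def jJ : U × U →ₗ[F] U × U := (LinearMap.snd F U U).prod (-LinearMap.fst F U U)

theorem jJ_apply (x : U × U) : jJ F U x = (x.2, -x.1) := rfl

namespace Frame

variable (hF : Frame Q QU QW pt)
include hF

/-- the part on the plane -/
noncomputable def io (_hF : Frame Q QU QW pt) (c d : W) : U × U →ₗ[F] V := (pt.flip c).coprod (pt.flip d)

/-- the transpose of `io` -/
noncomputable def iT (c d : W) : V →ₗ[F] U × U := (hF.pW c).prod (hF.pW d)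

theorem io_apply (c d : W) (x : U × U) : hF.io c d x = pt x.1 c + pt x.2 d := rfl

theorem iT_apply (c d : W) (z : V) : hF.iT c d z = (hF.pW c z, hF.pW d z) := rfl

theorem polar_io (c d : W) (z : V) (x : U × U) :
    polar Q z (hF.io c d x) = polar QU (hF.pW c z) x.1 + polar QU (hF.pW d z) x.2 := by
  rw [hF.io_apply, polar_add_right, hF.polar_pW, hF.polar_pW, polar_comm Q z (pt x.1 c), polar_comm Q z (pt x.2 d)]

theorem pW_lin (a b : F) (c d : W) (z : V) : hF.pW (a • c + b • d) z = a • hF.pW c z + b • hF.pW d z :=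
  hF.eqU fun u => by
    rw [hF.polar_pW, map_add, map_smul, map_smul, polar_add_left, polar_smul_left, polar_smul_left, polar_add_left,
      polar_smul_left, polar_smul_left, hF.polar_pW, hF.polar_pW]

variable {c d : W}

theorem iT_io (hp : Plane QW c d) (x : U × U) : hF.iT c d (hF.io c d x) = 0 := by
  rw [hF.iT_apply, hF.io_apply, map_add, map_add, hF.pW_pt, hF.pW_pt, hF.pW_pt, hF.pW_pt, polar_sing hp.hc,
    polar_sing hp.hd, hp.hcd, polar_comm QW d c, hp.hcd]
  simp

theorem iT_surj (hp : Plane QW c d) (x : U × U) : ∃ z, hF.iT c d z = x := by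
  obtain ⟨f, g, hcf, hdf, hcg, hdg⟩ := hp.exists_dual hF.ndW
  refine ⟨pt x.1 f + pt x.2 g, ?_⟩
  rw [hF.iT_apply, map_add, map_add, hF.pW_pt, hF.pW_pt, hF.pW_pt, hF.pW_pt, hcf, hdf, hcg, hdg]
  simp

/-- the group has the element `z ↦ z + io (P (iT z))` -/
def Rad2 (H : Subgroup (oG Q)) (c d : W) (P : U × U →ₗ[F] U × U) : Prop :=
  ∃ h ∈ H, ∀ z, h.1 z = z + hF.io c d (P (hF.iT c d z))

theorem rad2_zero : hF.Rad2 H c d 0 :=
  ⟨1, one_mem _, fun z => by rw [oG_one_apply, LinearMap.zero_apply, map_zero, add_zero]⟩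

theorem rad2_add (hp : Plane QW c d) {P P' : U × U →ₗ[F] U × U} (h : hF.Rad2 H c d P) (h' : hF.Rad2 H c d P') :
    hF.Rad2 H c d (P + P') := by
  obtain ⟨g, hg, hz⟩ := h
  obtain ⟨g', hg', hz'⟩ := h'
  refine ⟨g * g', mul_mem hg hg', fun z => ?_⟩
  rw [oG_mul_apply, hz, hz', map_add (hF.iT c d), hF.iT_io hp, add_zero, LinearMap.add_apply, map_add (hF.io c d),
    add_assoc, add_comm (hF.io c d (P' _))]

theorem rad2_neg (hp : Plane QW c d) {P : U × U →ₗ[F] U × U} (h : hF.Rad2 H c d P) : hF.Rad2 H c d (-P) := by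
  obtain ⟨g, hg, hz⟩ := h
  refine ⟨g⁻¹, inv_mem hg, fun z => g.1.injective ?_⟩
  rw [oG_apply_inv, hz, map_add (hF.iT c d), hF.iT_io hp, add_zero, LinearMap.neg_apply, map_neg (hF.io c d),
    neg_add_cancel_right]

theorem rad2_sub (hp : Plane QW c d) {P P' : U × U →ₗ[F] U × U} (h : hF.Rad2 H c d P) (h' : hF.Rad2 H c d P') :
    hF.Rad2 H c d (P - P') := sub_eq_add_neg P P' ▸ hF.rad2_add hp h (hF.rad2_neg hp h')

/-- conjugation by a pair of isometries fixing the plane -/
theorem rad2_conj {P P' : U × U →ₗ[F] U × U} (h : hF.Rad2 H c d P) {a : oG QU} {b : oG QW}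
    (hk : hF.lp (a, b) ∈ H) {α β γ δ : F} (hbc : b.1 c = α • c + β • d) (hbd : b.1 d = γ • c + δ • d)
    (hP' : ∀ x y : U, P' (x, y) =
      (α • a.1 (P ((a⁻¹).1 (α • x + β • y), (a⁻¹).1 (γ • x + δ • y))).1 +
        γ • a.1 (P ((a⁻¹).1 (α • x + β • y), (a⁻¹).1 (γ • x + δ • y))).2,
      β • a.1 (P ((a⁻¹).1 (α • x + β • y), (a⁻¹).1 (γ • x + δ • y))).1 +
        δ • a.1 (P ((a⁻¹).1 (α • x + β • y), (a⁻¹).1 (γ • x + δ • y))).2)) :
    hF.Rad2 H c d P' := by
  obtain ⟨g, hg, hz⟩ := h
  refine ⟨hF.lp (a, b) * g * (hF.lp (a, b))⁻¹, mul_mem (mul_mem hk hg) (inv_mem hk), fun z => ?_⟩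
  have e1 : hF.iT c d (((hF.lp (a, b))⁻¹).1 z) = ((a⁻¹).1 (α • hF.pW c z + β • hF.pW d z),
      (a⁻¹).1 (γ • hF.pW c z + δ • hF.pW d z)) := by
    have h1 : ∀ x, hF.pW x (((hF.lp (a, b))⁻¹).1 z) = (a⁻¹).1 (hF.pW (b.1 x) z) := fun x => by
      conv_rhs => rw [← oG_apply_inv (hF.lp (a, b)) z, hF.pW_lp, oG_inv_apply]
    rw [hF.iT_apply, h1, h1, hbc, hbd, hF.pW_lin, hF.pW_lin]
  rw [oG_mul_apply, oG_mul_apply, hz, map_add, oG_apply_inv, e1, hF.iT_apply, hP', hF.io_apply, hF.io_apply, map_add,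
    hF.lp_pt, hF.lp_pt, hbc, hbd]
  simp only [map_add, map_smul, LinearMap.add_apply, LinearMap.smul_apply]
  module

theorem radW_of_rad2_left {P : U × U →ₗ[F] U × U} {S : U →ₗ[F] U} (hP : ∀ x y : U, P (x, y) = (S x, 0))
    (h : hF.Rad2 H c d P) : hF.RadW H c S := by
  obtain ⟨g, hg, hz⟩ := h
  exact ⟨g, hg, fun z => by rw [hz, hF.iT_apply, hP, hF.io_apply]; simp⟩

theorem radW_of_rad2_right {P : U × U →ₗ[F] U × U} {S : U →ₗ[F] U} (hP : ∀ x y : U, P (x, y) = (0, S y))
    (h : hF.Rad2 H c d P) : hF.RadW H d S := by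
  obtain ⟨g, hg, hz⟩ := h
  exact ⟨g, hg, fun z => by rw [hz, hF.iT_apply, hP, hF.io_apply]; simp⟩

/-- the parameters with symmetric operator -/
theorem opSet_rad2 (hO : Over pt H) (hp : Plane QW c d) :
    OpSet QU (fun B => hF.Rad2 H c d (B.prodMap B ∘ₗ jJ F U)) where
  add {A B} hA hB := by
    convert hF.rad2_add hp hA hB using 1
    refine LinearMap.ext fun x => ?_
    simp
  neg {A} hA := by
    convert hF.rad2_neg hp hA using 1
    refine LinearMap.ext fun x => ?_
    simp
  sq {A} t hA := by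
    rcases eq_or_ne t 0 with rfl | ht
    · convert hF.rad2_zero (H := H) (c := c) (d := d) using 1
      refine LinearMap.ext fun x => ?_
      simp
    have h2 := hF.two
    obtain ⟨f₀, g₀, hcf, hdf, -, -⟩ := hp.exists_dual hF.ndW
    set f := f₀ + (-QW f₀) • c with hfd
    have hf : QW f = 0 := by rw [hfd, map_add_smul, hp.hc, polar_comm QW f₀ c, hcf]; ring
    have hcf' : polar QW c f = 1 := by
      rw [hfd, polar_add_right, polar_smul_right, polar_sing hp.hc, hcf, smul_zero, add_zero]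
    have hdf' : polar QW d f = 0 := by
      rw [hfd, polar_add_right, polar_smul_right, polar_comm QW d c, hp.hcd, hdf, smul_zero, add_zero]
    have hv : ∀ s : F, QW (c + s • f) = s := fun s => by rw [map_add_smul, hp.hc, hf, hcf']; ring
    have hv1 : QW (c + (1 : F) • f) ≠ 0 := by rw [hv]; exact one_ne_zero
    have hvt : QW (c + (t⁻¹ * t⁻¹) • f) ≠ 0 := by rw [hv]; simpa using ht
    have hrc : ∀ (s : F) (hs : QW (c + s • f) ≠ 0), (rO hs).1 c = (-s) • f ∧ (rO hs).1 f = (-s⁻¹) • c ∧
        (rO hs).1 d = d := fun s hs => by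
      have hs0 : s ≠ 0 := by simpa [hv] using hs
      refine ⟨?_, ?_, ?_⟩
      · rw [rO_apply, hv, polar_add_right, polar_smul_right, polar_sing hp.hc, hcf', smul_eq_mul, mul_one, zero_add,
          div_self hs0]
        module
      · rw [rO_apply, hv, polar_add_right, polar_smul_right, polar_sing hf, polar_comm QW f c, hcf', smul_zero,
          add_zero, one_div, smul_add, smul_smul, inv_mul_cancel₀ hs0]
        module
      · rw [rO_apply, polar_add_right, polar_smul_right, polar_comm QW d c, hp.hcd, hdf', smul_zero, add_zero,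
          zero_div, zero_smul, sub_zero]
    set k := rO hvt * rO hv1
    have hk : hF.lp (1, k) ∈ H :=
      hO.lp_mem hF (one_mem _) (rO_mul_mem_commutator hF.ndW hvt hv1 (t := t) (by
        rw [hv, hv]; field_simp))
    have hkc : k.1 c = (t ^ 2) • c + (0 : F) • d := by
      rw [oG_mul_apply, (hrc _ hv1).1, map_smul, (hrc _ hvt).2.1, smul_smul, zero_smul, add_zero]
      congr 1
      field_simp
    have hkd : k.1 d = (0 : F) • c + (1 : F) • d := by
      rw [oG_mul_apply, (hrc _ hv1).2.2, (hrc _ hvt).2.2]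
      simp
    refine hF.rad2_conj hA hk hkc hkd fun x y => ?_
    simp [jJ_apply, smul_smul]
  conj {A p v} hp' hv hA := by
    have hk : hF.lp (sO hp' hv, 1) ∈ H := hO.sU_mem hF hp' hv
    refine hF.rad2_conj hA hk (α := 1) (β := 0) (γ := 0) (δ := 1) (by simp) (by simp) fun x y => ?_
    simp [jJ_apply, sO_inv hp' hv]

/-- a parameter on a plane is a multiple of the parameter of the Siegel transformation of the plane -/
theorem rad2_scalar (hO : Over pt H) (hne : ¬ eo Q ≤ H) (hp : Plane QW c d) {P : U × U →ₗ[F] U × U}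
    (h : hF.Rad2 H c d P) : ∃ μ : F, P = μ • jJ F U := by
  have h2 := hF.two
  have hU := hF.dimU
  obtain ⟨f, g, hcf, hdf, hcg, hdg⟩ := hp.exists_dual hF.ndW
  set P₁₁ : U →ₗ[F] U := LinearMap.fst F U U ∘ₗ P ∘ₗ LinearMap.inl F U U with h11
  set P₁₂ : U →ₗ[F] U := LinearMap.fst F U U ∘ₗ P ∘ₗ LinearMap.inr F U U with h12
  set P₂₁ : U →ₗ[F] U := LinearMap.snd F U U ∘ₗ P ∘ₗ LinearMap.inl F U U with h21
  set P₂₂ : U →ₗ[F] U := LinearMap.snd F U U ∘ₗ P ∘ₗ LinearMap.inr F U U with h22
  have hdec : ∀ x y : U, P (x, y) = (P₁₁ x + P₁₂ y, P₂₁ x + P₂₂ y) := fun x y => by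
    have e : (x, y) = LinearMap.inl F U U x + LinearMap.inr F U U y := by simp
    rw [e, map_add]
    rfl
  have hiso : ∀ x y : U, polar QU x (P₁₁ x + P₁₂ y) + polar QU y (P₂₁ x + P₂₂ y) = 0 := fun x y => by
    obtain ⟨g', -, hz⟩ := h
    obtain ⟨z, hzz⟩ := hF.iT_surj hp (x, y)
    have h1 := g'.2 z
    have hQ : ∀ w, Q (hF.io c d w) = 0 := fun w => by
      rw [hF.io_apply, map_add', hF.pure_sing' _ hp.hc, hF.pure_sing' _ hp.hd, hF.prod, hp.hcd]; ring
    rw [hz, hzz, map_add', hQ, hF.polar_io] at h1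
    rw [hF.iT_apply, Prod.mk.injEq] at hzz
    rw [hzz.1, hzz.2, hdec] at h1
    linear_combination h1
  have hdiag : ∀ S : U →ₗ[F] U, (∀ x, polar QU x (S x) = 0) → ∀ x y, polar QU (S x) y = -polar QU x (S y) :=
    fun S hS x y => by
      have h1 := hS (x + y)
      simp only [map_add, polar_add_left, polar_add_right, hS] at h1
      rw [polar_comm]
      linear_combination h1
  -- the two shears
  have hshc : ∀ t : F, ∀ P' : U × U →ₗ[F] U × U,
      (∀ x y : U, P' (x, y) = ((P (x, t • x + y)).1 + t • (P (x, t • x + y)).2, (P (x, t • x + y)).2)) →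
      hF.Rad2 H c d P' := fun t P' hP' => by
    have hv : polar QW c (t • g) = 0 := polar_perp_smul hcg t
    refine hF.rad2_conj h (hO.sW_mem hF hp.hc hv) (α := 1) (β := 0) (γ := t) (δ := 1) ?_ ?_ fun x y => ?_
    · rw [sO_apply, hv, polar_sing hp.hc]; simp
    · rw [sO_apply, polar_smul_right, hdg, polar_comm QW d c, hp.hcd]; simp [add_comm]
    · rw [hP']; simp
  have hshd : ∀ t : F, ∀ P' : U × U →ₗ[F] U × U,
      (∀ x y : U, P' (x, y) = ((P (x + t • y, y)).1, t • (P (x + t • y, y)).1 + (P (x + t • y, y)).2)) →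
      hF.Rad2 H c d P' := fun t P' hP' => by
    have hv : polar QW d (t • f) = 0 := polar_perp_smul hdf t
    refine hF.rad2_conj h (hO.sW_mem hF hp.hd hv) (α := 1) (β := t) (γ := 0) (δ := 1) ?_ ?_ fun x y => ?_
    · rw [sO_apply, polar_smul_right, hcf, hp.hcd]; simp
    · rw [sO_apply, hv, polar_sing hp.hd]; simp
    · rw [hP']; simp
  let Tc : F → (U × U →ₗ[F] U × U) := fun t =>
    ((LinearMap.fst F U U + t • LinearMap.snd F U U).prod (LinearMap.snd F U U)) ∘ₗ P ∘ₗ
      ((LinearMap.fst F U U).prod (t • LinearMap.fst F U U + LinearMap.snd F U U))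
  let Td : F → (U × U →ₗ[F] U × U) := fun t =>
    ((LinearMap.fst F U U).prod (t • LinearMap.fst F U U + LinearMap.snd F U U)) ∘ₗ P ∘ₗ
      ((LinearMap.fst F U U + t • LinearMap.snd F U U).prod (LinearMap.snd F U U))
  have hTc : ∀ t, hF.Rad2 H c d (Tc t) := fun t => hshc t _ fun x y => rfl
  have hTd : ∀ t, hF.Rad2 H c d (Td t) := fun t => hshd t _ fun x y => rfl
  have z22 : P₂₂ = 0 := by
    by_contra h0
    have hs : ∀ y, polar QU y (P₂₂ y) = 0 := fun y => by simpa [polar] using hiso 0 y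
    refine hne (hF.eo_le_of_radW hO hp.left_ne hp.hc (S := P₂₂ + P₂₂) ?_ (fun e => h0 ?_) (hF.radW_of_rad2_left ?_
      (hF.rad2_sub hp (hF.rad2_sub hp (hF.rad2_add hp (hTc 1) (hTc (-1))) h) h)))
    · intro x y
      simp only [LinearMap.add_apply, polar_add_left, polar_add_right, hdiag _ hs]
      ring
    · rw [← two_smul F] at e
      exact (smul_eq_zero.1 e).resolve_left h2
    · intro x y
      simp only [Tc, LinearMap.sub_apply, LinearMap.add_apply, LinearMap.comp_apply, LinearMap.prod_apply,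
        Function.prod_apply, LinearMap.smul_apply, LinearMap.fst_apply, LinearMap.snd_apply, hdec, Prod.mk_add_mk,
        Prod.mk_sub_mk, map_add, map_smul, one_smul, neg_smul, map_neg, LinearMap.neg_apply, neg_add_rev, Prod.mk.injEq]
      constructor <;> abel
  have z11 : P₁₁ = 0 := by
    by_contra h0
    have hs : ∀ x, polar QU x (P₁₁ x) = 0 := fun x => by simpa [polar] using hiso x 0
    refine hne (hF.eo_le_of_radW hO hp.right_ne hp.hd (S := P₁₁ + P₁₁) ?_ (fun e => h0 ?_) (hF.radW_of_rad2_right ?_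
      (hF.rad2_sub hp (hF.rad2_sub hp (hF.rad2_add hp (hTd 1) (hTd (-1))) h) h)))
    · intro x y
      simp only [LinearMap.add_apply, polar_add_left, polar_add_right, hdiag _ hs]
      ring
    · rw [← two_smul F] at e
      exact (smul_eq_zero.1 e).resolve_left h2
    · intro x y
      simp only [Td, LinearMap.sub_apply, LinearMap.add_apply, LinearMap.comp_apply, LinearMap.prod_apply,
        Function.prod_apply, LinearMap.smul_apply, LinearMap.fst_apply, LinearMap.snd_apply, hdec, Prod.mk_add_mk,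
        Prod.mk_sub_mk, map_add, map_smul, one_smul, neg_smul, map_neg, LinearMap.neg_apply, neg_add_rev, Prod.mk.injEq]
      constructor <;> abel
  have hdec' : ∀ x y : U, P (x, y) = (P₁₂ y, P₂₁ x) := fun x y => by rw [hdec, z11, z22]; simp
  have hmix : ∀ x y, polar QU y (P₂₁ x) = -polar QU x (P₁₂ y) := fun x y => by
    have := hiso x y
    rw [z11, z22] at this
    simp only [LinearMap.zero_apply, zero_add, add_zero] at this
    linear_combination this
  have z12 : P₂₁ = -P₁₂ := by
    refine eq_neg_of_add_eq_zero_left ?_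
    by_contra h0
    refine hne (hF.eo_le_of_radW hO hp.left_ne hp.hc (S := P₂₁ + P₁₂) ?_ h0 (hF.radW_of_rad2_left ?_
      (hF.rad2_sub hp (hTc 1) h)))
    · intro x y
      simp only [LinearMap.add_apply, polar_add_left, polar_add_right, polar_comm QU (P₂₁ x) y, hmix,
        polar_comm QU (P₁₂ x) y]
      ring
    · intro x y
      simp only [Tc, LinearMap.sub_apply, LinearMap.comp_apply, LinearMap.prod_apply, LinearMap.add_apply,
        Function.prod_apply, LinearMap.smul_apply, LinearMap.fst_apply, LinearMap.snd_apply, hdec',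
        Prod.mk_sub_mk, map_add, one_smul, Prod.mk.injEq]
      constructor <;> abel
  have hsym : ∀ x y, polar QU (P₁₂ x) y = polar QU x (P₁₂ y) := fun x y => by
    have h1 := hmix x y
    rw [z12, LinearMap.neg_apply, polar_neg_right] at h1
    rw [polar_comm]
    linear_combination -h1
  have hM : hF.Rad2 H c d (P₁₂.prodMap P₁₂ ∘ₗ jJ F U) := by
    convert h using 1
    refine LinearMap.ext fun x => ?_
    obtain ⟨x, y⟩ := x
    rw [hdec', z12]
    simp [jJ_apply]
  by_cases hsc : ∃ κ : F, ∀ x, P₁₂ x = κ • x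
  · obtain ⟨κ, hκ⟩ := hsc
    refine ⟨κ, LinearMap.ext fun x => ?_⟩
    obtain ⟨x, y⟩ := x
    rw [hdec', z12]
    simp [jJ_apply, hκ]
  · exfalso
    obtain ⟨p, hp0, hpq, g', hg', hz⟩ :=
      (hF.opSet_rad2 hO hp).exists_square h2 hF.ndU hU hF.q3 hF.ell hsym hsc hM
    have hS0 : (2 : F) • skP QW c d ≠ 0 := fun e => by
      have h3 := LinearMap.congr_fun e g
      rw [LinearMap.smul_apply, skP_apply, hdg, hcg, zero_smul, sub_zero, one_smul, LinearMap.zero_apply] at h3
      exact hp.left_ne ((smul_eq_zero.1 h3).resolve_left h2)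
    refine hne (hF.eo_le_of_radU hO hp0 hpq (S := (2 : F) • skP QW c d) ?_ hS0 ⟨g', hg', fun z => ?_⟩)
    · intro x y
      rw [LinearMap.smul_apply, LinearMap.smul_apply, polar_smul_left, polar_smul_right, skP_skew, smul_neg]
    · have e : ∀ w, polar QW w (hF.pU p z) = polar QU p (hF.pW w z) := fun w => by
        rw [polar_comm, hF.polar_pU, polar_comm QU p, hF.polar_pW]
      rw [hz, hF.iT_apply, hF.io_apply]
      simp only [LinearMap.comp_apply, jJ_apply, LinearMap.prodMap_apply, symP_apply, LinearMap.smul_apply,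
        skP_apply, map_smul, map_sub, map_add, map_neg, LinearMap.add_apply, LinearMap.neg_apply, e]
      module

end Frame

end Cfsg.Agent.ClassicalMax.OTensor
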