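import Cfsg.Agent.ClassicalMax.SpTensor.Word

/-!
Words in `x(s) = [[1, s], [0, 1]]` and `y(s) = [[1, 0], [s N, 1]]` for an operator `N` that is not scalar: either a
word with vanishing lower corner and non-scalar upper corner, or a lower corner whose negated square is again
non-scalar and of smaller stable rank.
-/

set_option autoImplicit false
set_option linter.unusedSectionVars false
set_option linter.style.haveILetI false

namespace Cfsg.Agent.ClassicalMax.OTensor

open Matrix Polynomial Module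
open Cfsg.Agent.RootSub.Dickson
open scoped MatrixGroups

variable {F : Type*} [Field F]

theorem upR_word (t : F) : upR (C t) ∈ wordGroup F := upR_mem F (X : F[X]) t

theorem lowR_word (t : F) : lowR (C t * X) ∈ wordGroup F := lowR_mem F (X : F[X]) t

/-- a word is unitriangular modulo `X` -/
theorem word_shape {M : SL(2, F[X])} (hM : M ∈ wordGroup F) :
    X ∣ M 1 0 ∧ X ∣ M 0 0 - 1 ∧ X ∣ M 1 1 - 1 := by
  refine Subgroup.closure_induction (fun g hg => ?_) (by simp) (fun g h _ _ hg hh => ?_) (fun g _ hg => ?_) hM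
  · rcases hg with ⟨t, rfl⟩ | ⟨t, rfl⟩ <;> simp [coe_upR, coe_lowR]
  · obtain ⟨hg1, hg2, hg3⟩ := hg
    obtain ⟨hh1, hh2, hh3⟩ := hh
    simp only [Matrix.SpecialLinearGroup.coe_mul, Matrix.mul_apply, Fin.sum_univ_two]
    refine ⟨dvd_add (hg1.mul_right _) (hh1.mul_left _), ?_, ?_⟩
    · have e : g 0 0 * h 0 0 + g 0 1 * h 1 0 - 1 =
          (g 0 0 - 1) * h 0 0 + (h 0 0 - 1) + g 0 1 * h 1 0 := by ring
      rw [e]
      exact dvd_add (dvd_add (hg2.mul_right _) hh2) (hh1.mul_left _)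
    · have e : g 1 0 * h 0 1 + g 1 1 * h 1 1 - 1 =
          g 1 0 * h 0 1 + ((g 1 1 - 1) * h 1 1 + (h 1 1 - 1)) := by ring
      rw [e]
      exact dvd_add (hg1.mul_right _) (dvd_add (hg3.mul_right _) hh3)
  · obtain ⟨hg1, hg2, hg3⟩ := hg
    simp only [Matrix.SpecialLinearGroup.coe_inv, Matrix.adjugate_fin_two, Matrix.of_apply, Matrix.cons_val_zero,
      Matrix.cons_val_one]
    exact ⟨(dvd_neg (α := F[X])).2 hg1, hg3, hg2⟩

/-- congruent to `1 + X ^ k S` modulo `X ^ (k + 1)` -/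
def Cong (k : ℕ) (S : Matrix (Fin 2) (Fin 2) F) (M : SL(2, F[X])) : Prop :=
  ∃ R : Matrix (Fin 2) (Fin 2) F[X], (M : Matrix (Fin 2) (Fin 2) F[X]) = 1 + (X ^ k : F[X]) • S.map C + (X ^ (k + 1) : F[X]) • R

theorem Cong.mul {k : ℕ} (hk : 1 ≤ k) {S S' : Matrix (Fin 2) (Fin 2) F} {M M' : SL(2, F[X])} (h : Cong k S M)
    (h' : Cong k S' M') : Cong k (S + S') (M * M') := by
  obtain ⟨j, rfl⟩ : ∃ j, k = j + 1 := ⟨k - 1, by omega⟩
  obtain ⟨R, hR⟩ := h
  obtain ⟨R', hR'⟩ := h'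
  refine ⟨R + R' + (X ^ j : F[X]) • ((S.map C + (X : F[X]) • R) * (S'.map C + (X : F[X]) • R')), ?_⟩
  rw [Matrix.SpecialLinearGroup.coe_mul, hR, hR', Matrix.map_add C (fun _ _ => map_add C _ _)]
  simp only [mul_add, add_mul, mul_one, one_mul, smul_mul_assoc, mul_smul_comm, smul_smul, smul_add]
  module

theorem Cong.inv {k : ℕ} (hk : 1 ≤ k) {S : Matrix (Fin 2) (Fin 2) F} {M : SL(2, F[X])} (h : Cong k S M) :
    Cong k (-S) M⁻¹ := by
  obtain ⟨j, rfl⟩ : ∃ j, k = j + 1 := ⟨k - 1, by omega⟩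
  obtain ⟨R, hR⟩ := h
  set Y : Matrix (Fin 2) (Fin 2) F[X] := S.map C + (X : F[X]) • R with hY
  set N : Matrix (Fin 2) (Fin 2) F[X] := ((M⁻¹ : SL(2, F[X])) : Matrix (Fin 2) (Fin 2) F[X]) with hNd
  refine ⟨-R + (X ^ j : F[X]) • (Y * Y * N), ?_⟩
  have h1 : (M : Matrix (Fin 2) (Fin 2) F[X]) * N = 1 := by
    rw [hNd, ← Matrix.SpecialLinearGroup.coe_mul, mul_inv_cancel, Matrix.SpecialLinearGroup.coe_one]
  have h2 : (M : Matrix (Fin 2) (Fin 2) F[X]) = 1 + (X ^ (j + 1) : F[X]) • Y := by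
    rw [hR, hY]; module
  rw [h2, add_mul, one_mul, smul_mul_assoc] at h1
  have h3 : N = 1 - (X ^ (j + 1) : F[X]) • (Y * N) := eq_sub_of_add_eq h1
  have h4 : N = 1 - (X ^ (j + 1) : F[X]) • Y + (X ^ (j + 1) : F[X]) • ((X ^ (j + 1) : F[X]) • (Y * Y * N)) := by
    conv_lhs => rw [h3, h3]
    rw [mul_sub, mul_one, mul_smul_comm, ← mul_assoc, smul_sub]
    abel
  rw [← hNd]
  conv_lhs => rw [h4, hY]
  rw [Matrix.map_neg C (fun _ => map_neg C _), ← hY]
  rw [hY]
  module

theorem Cong.conj_up {k : ℕ} {S : Matrix (Fin 2) (Fin 2) F} {M : SL(2, F[X])} (h : Cong k S M) (t : F) :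
    Cong k (!![1, t; 0, 1] * S * !![1, -t; 0, 1]) (upR (C t) * M * (upR (C t))⁻¹) := by
  obtain ⟨R, hR⟩ := h
  have e : ∀ s : F, ((upR (C s) : SL(2, F[X])) : Matrix (Fin 2) (Fin 2) F[X]) = (!![1, s; 0, 1]).map C := fun s => by
    refine Matrix.ext fun i j => ?_
    fin_cases i <;> fin_cases j <;> simp [coe_upR]
  refine ⟨(!![1, t; 0, 1]).map C * R * (!![1, -t; 0, 1]).map C, ?_⟩
  have e1 : (!![1, t; 0, 1] : Matrix (Fin 2) (Fin 2) F).map C * (!![1, -t; 0, 1]).map C = 1 := by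
    rw [← e, ← e, ← Matrix.SpecialLinearGroup.coe_mul, C_neg, ← upR_inv, mul_inv_cancel,
      Matrix.SpecialLinearGroup.coe_one]
  rw [upR_inv, ← C_neg, Matrix.SpecialLinearGroup.coe_mul, Matrix.SpecialLinearGroup.coe_mul, hR, e, e,
    Matrix.map_mul, Matrix.map_mul, mul_add, mul_add, add_mul, add_mul, mul_one, e1, mul_smul_comm, mul_smul_comm,
    smul_mul_assoc, smul_mul_assoc]

/-- the commutator with a lower generator raises the level -/
theorem Cong.comm_low {k : ℕ} {s : F} {M : SL(2, F[X])} (hk : 1 ≤ k) (h : Cong k !![s, 0; 0, -s] M) (t : F) :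
    Cong (k + 1) !![0, 0; 2 * t * s, 0] (lowR (C t * X) * M * (lowR (C t * X))⁻¹ * M⁻¹) := by
  obtain ⟨j, rfl⟩ : ∃ j, k = j + 1 := ⟨k - 1, by omega⟩
  obtain ⟨R', hR'⟩ := Cong.inv hk h
  obtain ⟨R, hR⟩ := h
  set S : Matrix (Fin 2) (Fin 2) F[X] := (!![s, 0; 0, -s] : Matrix (Fin 2) (Fin 2) F).map C with hSd
  set T : Matrix (Fin 2) (Fin 2) F[X] := !![0, 0; C t, 0] with hTd
  have eL : ∀ u : F, ((lowR (C u * X) : SL(2, F[X])) : Matrix (Fin 2) (Fin 2) F[X]) =
      1 + (X : F[X]) • !![0, 0; C u, 0] := fun u => by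
    refine Matrix.ext fun i j => ?_
    fin_cases i <;> fin_cases j <;> simp [coe_lowR]
  set N : Matrix (Fin 2) (Fin 2) F[X] := ((M⁻¹ : SL(2, F[X])) : Matrix (Fin 2) (Fin 2) F[X]) with hNd
  set Y : Matrix (Fin 2) (Fin 2) F[X] := (X ^ j : F[X]) • ((-(!![s, 0; 0, -s] : Matrix (Fin 2) (Fin 2) F)).map C +
      (X : F[X]) • R') with hYd
  have hN : N = 1 + (X : F[X]) • Y := by
    rw [hR', hYd]; module
  have e3 : T * S - S * T = (!![0, 0; 2 * t * s, 0] : Matrix (Fin 2) (Fin 2) F).map C := by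
    rw [hTd, hSd]
    refine Matrix.ext fun i j => ?_
    rw [Matrix.sub_apply, Matrix.mul_apply, Matrix.mul_apply, Fin.sum_univ_two, Fin.sum_univ_two]
    fin_cases i <;> fin_cases j <;> simp [C_ofNat] <;> ring
  set Z : Matrix (Fin 2) (Fin 2) F[X] := T * R - R * T - T * S * T - (X : F[X]) • (T * R * T) with hZd
  have hM1 : (M : Matrix (Fin 2) (Fin 2) F[X]) * N = 1 := by
    rw [hNd, ← Matrix.SpecialLinearGroup.coe_mul, mul_inv_cancel, Matrix.SpecialLinearGroup.coe_one]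
  have hmain : (1 + (X : F[X]) • T) * (M : Matrix (Fin 2) (Fin 2) F[X]) * (1 + (X : F[X]) • (-T)) =
      M + (X ^ (j + 1 + 1) : F[X]) • (T * S - S * T) + (X ^ (j + 1 + 1 + 1) : F[X]) • Z := by
    have hTT : T * T = 0 := by
      rw [hTd]; refine Matrix.ext fun i j => ?_
      fin_cases i <;> fin_cases j <;> simp [Matrix.mul_apply, Fin.sum_univ_two]
    rw [hR, hZd]
    simp only [mul_add, add_mul, mul_one, one_mul, smul_mul_assoc, mul_smul_comm, smul_smul, smul_add, smul_sub,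
      mul_neg, smul_neg, neg_mul, hTT, smul_zero, add_zero, ← hSd]
    module
  refine ⟨Z + (T * S - S * T + (X : F[X]) • Z) * Y, ?_⟩
  have hneg : lowR (C (-t) * X) = (lowR (C t * X))⁻¹ := by rw [lowR_inv, C_neg, neg_mul]
  rw [← hneg, Matrix.SpecialLinearGroup.coe_mul, Matrix.SpecialLinearGroup.coe_mul, Matrix.SpecialLinearGroup.coe_mul,
    eL, eL, show (!![0, 0; C (-t), 0] : Matrix (Fin 2) (Fin 2) F[X]) = -T by rw [hTd]; simp, hmain, ← hNd, add_mul,
    add_mul, hM1, ← e3]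
  conv_lhs => rw [hN]
  simp only [mul_add, add_mul, mul_one, smul_mul_assoc, mul_smul_comm, smul_smul, smul_add]
  module

/-- every lower congruence is reached -/
theorem exists_cong (h2 : (2 : F) ≠ 0) : ∀ k : ℕ, ∀ s : F, ∃ M ∈ wordGroup F, Cong (k + 1) !![0, 0; s, 0] M := by
  intro k
  induction k with
  | zero =>
    intro s
    refine ⟨_, lowR_word s, 0, ?_⟩
    refine Matrix.ext fun i j => ?_
    fin_cases i <;> fin_cases j <;> simp [coe_lowR]
  | succ k ih =>
    intro s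
    obtain ⟨M, hM, hc⟩ := ih (2⁻¹)
    have hk : 1 ≤ k + 1 := by omega
    have hd := (hc.conj_up 1).mul hk ((hc.conj_up (-1)).inv hk)
    have hS : (!![1, 1; 0, 1] * !![0, 0; 2⁻¹, 0] * !![1, -1; 0, 1] +
        -(!![1, -1; 0, 1] * !![0, 0; 2⁻¹, 0] * !![1, -(-1); 0, 1]) : Matrix (Fin 2) (Fin 2) F) =
        !![1, 0; 0, -1] := by
      refine Matrix.ext fun i j => ?_
      fin_cases i <;> fin_cases j <;> simp <;> field_simp <;> ring
    rw [hS] at hd
    set H : SL(2, F[X]) := upR (C 1) * M * (upR (C 1))⁻¹ * (upR (C (-1)) * M * (upR (C (-1)))⁻¹)⁻¹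
    have hH : H ∈ wordGroup F :=
      mul_mem (mul_mem (mul_mem (upR_word 1) hM) (inv_mem (upR_word 1)))
        (inv_mem (mul_mem (mul_mem (upR_word (-1)) hM) (inv_mem (upR_word (-1)))))
    refine ⟨_, mul_mem (mul_mem (mul_mem (lowR_word (s / 2)) hH) (inv_mem (lowR_word (s / 2)))) (inv_mem hH), ?_⟩
    have h3 := hd.comm_low hk (s / 2)
    rwa [show 2 * (s / 2) * 1 = s by field_simp] at h3

/-- a word congruent to `1 + X` in the upper corner with lower corner divisible by a high power of `X` -/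
theorem exists_nil_word (h2 : (2 : F) ≠ 0) : ∀ k : ℕ,
    ∃ M ∈ wordGroup F, X ^ (k + 2) ∣ M 1 0 ∧ X ^ 2 ∣ M 0 0 - (1 + X) := by
  intro k
  induction k with
  | zero =>
    refine ⟨lowR (C (-1) * X) * upR (C 1) * lowR (C 1 * X),
      mul_mem (mul_mem (lowR_word _) (upR_word _)) (lowR_word _), ⟨-1, ?_⟩, ⟨0, ?_⟩⟩
    all_goals
      simp [coe_upR, coe_lowR, Matrix.SpecialLinearGroup.coe_mul, Matrix.mul_apply, Fin.sum_univ_two]
    all_goals ring
  | succ k ih =>
    obtain ⟨M, hM, ⟨r, hr⟩, ha⟩ := ih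
    obtain ⟨L, hL, R, hR⟩ := exists_cong h2 (k + 1) (-(r.coeff 0))
    refine ⟨L * M, mul_mem hL hM, ?_, ?_⟩
    · rw [Matrix.SpecialLinearGroup.coe_mul, Matrix.mul_apply, Fin.sum_univ_two, hR]
      obtain ⟨a', ha'⟩ := (word_shape hM).2.1
      obtain ⟨r', hr'⟩ : X ∣ r - C (r.coeff 0) := by rw [X_dvd_iff]; simp
      refine ⟨-C (r.coeff 0) * a' + R 1 0 * M 0 0 + r' + X ^ (k + 2) * R 1 1 * r, ?_⟩
      simp [hr]
      linear_combination (X : F[X]) ^ (k + 1 + 1) * hr' - (X : F[X]) ^ (k + 1 + 1) * C (r.coeff 0) * ha'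
    · rw [Matrix.SpecialLinearGroup.coe_mul, Matrix.mul_apply, Fin.sum_univ_two, hR]
      obtain ⟨w, hw⟩ := ha
      refine ⟨w + X ^ (k + 1) * R 0 0 * M 0 0 + X ^ (k + 1) * R 0 1 * M 1 0, ?_⟩
      simp
      linear_combination hw

/-- in the quotient by an irreducible polynomial an upper triangular element that is not unipotent -/
theorem exists_torus_one [Finite F] {K : Type*} [Field K] [Algebra F K] [FiniteDimensional F K] (h2 : (2 : F) ≠ 0)
    {μ : K} (hμ0 : μ ≠ 0) (hgen : Algebra.adjoin F ({μ} : Set K) = ⊤) :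
    ∃ g ∈ dicksonGroup F μ, g 1 0 = 0 ∧ g 0 0 ≠ 1 := by
  by_cases hμ : ∀ κ : F, algebraMap F K κ ≠ μ
  · obtain ⟨g, hg, h10, h00⟩ := SpTensor.exists_torus h2 hgen hμ
    exact ⟨g, hg, h10, fun e => h00 1 (by rw [e, map_one])⟩
  obtain ⟨κ, hκ⟩ := not_forall_not.1 hμ
  have hκ0 : κ ≠ 0 := fun h => hμ0 (by rw [← hκ, h, map_zero])
  have hu : upR (-μ⁻¹) ∈ dicksonGroup F μ := by
    have h := upR_mem F μ (-κ⁻¹)
    rwa [map_neg, map_inv₀, hκ] at h
  have hl : lowR μ ∈ dicksonGroup F μ := by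
    have h := lowR_mem F μ (1 : F)
    rwa [map_one, one_mul] at h
  have h2K : (2 : K) ≠ 0 := by rw [← map_ofNat (algebraMap F K) 2]; simpa using h2
  refine ⟨upR (-μ⁻¹) * lowR μ * upR (-μ⁻¹) * (upR (-μ⁻¹) * lowR μ * upR (-μ⁻¹)),
    mul_mem (mul_mem (mul_mem hu hl) hu) (mul_mem (mul_mem hu hl) hu), ?_, fun e => h2K ?_⟩
  · simp [coe_upR, coe_lowR, Matrix.SpecialLinearGroup.coe_mul, Matrix.mul_apply, Fin.sum_univ_two, hμ0]
  · simp [coe_upR, coe_lowR, Matrix.SpecialLinearGroup.coe_mul, Matrix.mul_apply, Fin.sum_univ_two, hμ0] at e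
    linear_combination -e

/-- a word congruent to one at zero, upper triangular and not unipotent modulo an irreducible polynomial -/
theorem exists_split_word [Finite F] (h2 : (2 : F) ≠ 0) {f : F[X]} (hf : Irreducible f) (hf0 : ¬ X ∣ f) (n : ℕ) :
    ∃ M ∈ wordGroup F, X ^ n ∣ M 1 0 ∧ X ^ n ∣ M 0 0 - 1 ∧ f ∣ M 1 0 ∧ ¬ f ∣ M 0 0 - 1 := by
  classical
  haveI : Fact (Irreducible f) := ⟨hf⟩
  haveI : FiniteDimensional F (AdjoinRoot f) := (AdjoinRoot.powerBasis hf.ne_zero).finite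
  have hroot : AdjoinRoot.root f ≠ 0 := fun h => by
    rw [← AdjoinRoot.mk_X, AdjoinRoot.mk_eq_zero] at h
    exact hf0 (hf.associated_of_dvd irreducible_X h).symm.dvd
  obtain ⟨g, hg, hg0, hg1⟩ := exists_torus_one h2 hroot AdjoinRoot.adjoinRoot_eq_top
  obtain ⟨M₀, hM₀, hMg⟩ := Cfsg.Agent.RootSub.Dickson.exists_word F hg
  obtain ⟨p, hp⟩ := CharP.exists F
  haveI : Fact p.Prime := ⟨CharP.char_is_prime F p⟩
  haveI : CharP (AdjoinRoot f) p := charP_of_injective_algebraMap (algebraMap F (AdjoinRoot f)).injective p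
  set k := 2 * n + 1
  have hP : 2 * n ≤ p ^ k := by
    have h1 := Nat.lt_pow_self (n := k) (Nat.Prime.one_lt (Fact.out : p.Prime))
    omega
  refine ⟨M₀ ^ (p ^ k), pow_mem hM₀ _, ?_⟩
  obtain ⟨h10, h00, h11⟩ := word_shape hM₀
  set A : Matrix (Fin 2) (Fin 2) F[X] := (M₀ : Matrix (Fin 2) (Fin 2) F[X]) with hA
  have hsq : ∃ N : Matrix (Fin 2) (Fin 2) F[X], (A - 1) * (A - 1) = (X : F[X]) • N := by
    obtain ⟨a, ha⟩ := h00
    obtain ⟨c, hc⟩ := h10
    obtain ⟨d, hd⟩ := h11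
    refine ⟨!![X * a * a + M₀ 0 1 * c, M₀ 0 1 * (a + d); X * c * (a + d), M₀ 0 1 * c + X * d * d], ?_⟩
    refine Matrix.ext fun i j => ?_
    fin_cases i <;> fin_cases j <;>
      simp [Matrix.mul_apply, Fin.sum_univ_two] <;> simp only [ha, hc, hd] <;> ring
  obtain ⟨N, hN⟩ := hsq
  haveI : CharP (Matrix (Fin 2) (Fin 2) F[X]) p := inferInstance
  haveI : ExpChar (Matrix (Fin 2) (Fin 2) F[X]) p := ExpChar.prime Fact.out
  have hpow : A ^ p ^ k - 1 = (X ^ n : F[X]) • (N ^ n * (A - 1) ^ (p ^ k - 2 * n)) := by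
    have h1 := sub_pow_expChar_pow_of_commute (p := p) (n := k) (Commute.one_right A)
    rw [one_pow] at h1
    rw [← h1, ← smul_mul_assoc, ← _root_.smul_pow, ← hN, ← pow_two, ← pow_mul, ← pow_add, Nat.add_sub_cancel' hP]
  have hcoe : ((M₀ ^ (p ^ k) : SL(2, F[X])) : Matrix (Fin 2) (Fin 2) F[X]) = A ^ p ^ k :=
    Matrix.SpecialLinearGroup.coe_pow _ _
  have hXd : ∀ i j, X ^ n ∣ (A ^ p ^ k - 1) i j := fun i j => by
    rw [hpow, Matrix.smul_apply, smul_eq_mul]; exact dvd_mul_right _ _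
  have hval : ∀ i j, AdjoinRoot.mk f (M₀ i j) = g i j := fun i j => by
    rw [← hMg]
    simp [Matrix.SpecialLinearGroup.map_apply_coe, RingHom.mapMatrix_apply, AdjoinRoot.aeval_eq]
  have hgP : ∀ m : ℕ, (g ^ m) 1 0 = 0 ∧ (g ^ m) 0 0 = (g 0 0) ^ m := fun m => by
    induction m with
    | zero => simp
    | succ m ih =>
      obtain ⟨i1, i2⟩ := ih
      constructor <;>
        rw [pow_succ, Matrix.SpecialLinearGroup.coe_mul, Matrix.mul_apply, Fin.sum_univ_two, hg0]
      · simp [i1]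
      · simp [i2, pow_succ]
  have hvalP : ∀ i j, AdjoinRoot.mk f ((M₀ ^ p ^ k) i j) = (g ^ p ^ k) i j := fun i j => by
    rw [← hMg, ← map_pow, Matrix.SpecialLinearGroup.map_apply_coe, RingHom.mapMatrix_apply, Matrix.map_apply]
    simp [Matrix.SpecialLinearGroup.map_apply_coe, RingHom.mapMatrix_apply, AdjoinRoot.aeval_eq]
  refine ⟨?_, ?_, AdjoinRoot.mk_eq_zero.1 ((hvalP 1 0).trans (hgP _).1), fun h => ?_⟩
  · simpa [hcoe] using hXd 1 0
  · simpa [hcoe] using hXd 0 0
  · have h1 := AdjoinRoot.mk_eq_zero.2 h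
    rw [map_sub, map_one, hvalP, (hgP _).2, sub_eq_zero] at h1
    haveI : ExpChar (AdjoinRoot f) p := ExpChar.prime Fact.out
    exact hg1 (iterateFrobenius_inj (AdjoinRoot f) p k (by simpa [iterateFrobenius_def] using h1))

variable {L : Type*} [AddCommGroup L] [Module F L] [FiniteDimensional F L]

/-- the lower corner vanishes in the sense needed for preserving the plane -/
def Exact (K : Module.End F L) (M : SL(2, F[X])) : Prop :=
  (Function.Injective K ∧ aeval K (M 1 0) = 0) ∨ ∃ r : F[X], M 1 0 = X ^ 2 * r ∧ aeval K r = 0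

theorem ker_pow_stable (K : Module.End F L) {m : ℕ} (hm : finrank F L ≤ m) {z : L} {l : ℕ} (h : (K ^ l) z = 0) :
    (K ^ m) z = 0 := by
  rcases Nat.le_total l m with hl | hl
  · obtain ⟨i, rfl⟩ := Nat.exists_eq_add_of_le hl
    rw [Nat.add_comm, pow_add, Module.End.mul_apply, h, map_zero]
  have h2 : z ∈ LinearMap.ker (K ^ l) := h
  rw [Module.End.ker_pow_eq_ker_pow_finrank_of_le (hm.trans hl),
    ← Module.End.ker_pow_eq_ker_pow_finrank_of_le hm] at h2
  exact h2

theorem aeval_stable (K : Module.End F L) {m : ℕ} (hm : finrank F L ≤ m) (s : F[X]) {l : ℕ}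
    (h : aeval K (X ^ l * s) = 0) : aeval K (X ^ m * s) = 0 := LinearMap.ext fun z => by
  rw [map_mul, map_pow, aeval_X, Module.End.mul_apply] at *
  refine ker_pow_stable K hm (l := l) ?_
  have := LinearMap.congr_fun h z
  rwa [Module.End.mul_apply] at this

theorem nilpotent_scalar {κ : F} [Nontrivial L] (h : IsNilpotent (algebraMap F (Module.End F L) κ)) : κ = 0 := by
  obtain ⟨l, hl⟩ := h
  rw [← map_pow, map_eq_zero] at hl
  exact eq_zero_of_pow_eq_zero hl

/-- a square-zero lower corner turns into a zero one with non-scalar upper corner -/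
theorem upper_nonscalar [Nontrivial L] (K : Module.End F L) (M : SL(2, F[X])) (h0 : aeval K (M 1 0) ≠ 0)
    (h1 : aeval K (M 1 0) ^ 2 = 0) :
    ∀ κ : F, aeval K ((M * upR (C 1) * M⁻¹ : SL(2, F[X])) 0 0) ≠ algebraMap F (Module.End F L) κ := by
  intro κ e
  have hd := det2 M
  have e1 : (M * upR (C 1) * M⁻¹ : SL(2, F[X])) 0 0 = 1 - M 0 0 * M 1 0 := by
    simp [coe_upR, Matrix.SpecialLinearGroup.coe_mul, Matrix.SpecialLinearGroup.coe_inv, Matrix.adjugate_fin_two,
      Matrix.mul_apply, Fin.sum_univ_two]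
    linear_combination hd
  rw [e1, map_sub, map_one] at e
  have e2 : aeval K (M 0 0 * M 1 0) = algebraMap F (Module.End F L) (1 - κ) := by
    rw [map_sub, map_one, ← e]; abel
  have hn : IsNilpotent (algebraMap F (Module.End F L) (1 - κ)) := by
    refine ⟨2, ?_⟩
    rw [← e2, ← map_pow, mul_pow, map_mul, map_pow (aeval K) (M 1 0), h1, mul_zero]
  rw [nilpotent_scalar hn, map_zero] at e2
  refine h0 ?_
  have e3 : M 1 0 = M 1 1 * (M 0 0 * M 1 0) - M 0 1 * M 1 0 ^ 2 := by linear_combination -(M 1 0) * hd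
  rw [e3, map_sub, map_mul, e2, map_mul (aeval K) (M 0 1), map_pow, h1, mul_zero, mul_zero, sub_zero]

theorem lower_conj (M : SL(2, F[X])) : (M * upR (C 1) * M⁻¹ : SL(2, F[X])) 1 0 = -(M 1 0) ^ 2 := by
  simp [coe_upR, Matrix.SpecialLinearGroup.coe_mul, Matrix.SpecialLinearGroup.coe_inv, Matrix.adjugate_fin_two,
    Matrix.mul_apply, Fin.sum_univ_two]
  ring

theorem range_pow_inj (K : Module.End F L) {z : L} (hz : z ∈ LinearMap.range (K ^ finrank F L))
    (h : (K ^ finrank F L) z = 0) : z = 0 := by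
  obtain ⟨y, rfl⟩ := hz
  exact ker_pow_stable K le_rfl (l := finrank F L + finrank F L) (by rw [pow_add, Module.End.mul_apply, h])

/-- the stable rank drops -/
theorem rank_drop [Nontrivial L] (K : Module.End F L) {s : F[X]} {l : ℕ} {p : L} (hp : p ≠ 0)
    (hpE : p ∈ LinearMap.range (K ^ finrank F L)) (hcp : aeval K ((X : F[X]) ^ (l + 1) * s) p = 0) :
    finrank F (LinearMap.range ((-aeval K ((X : F[X]) ^ (l + 1) * s) ^ 2) ^ finrank F L)) <
      finrank F (LinearMap.range (K ^ finrank F L)) := by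
  set N := finrank F L with hNd
  set E := LinearMap.range (K ^ N) with hE
  set q : F[X] := ((-(X ^ (l + l + 1) * s ^ 2)) ^ N) with hqd
  have hpowX : K ^ N = aeval K ((X : F[X]) ^ N) := by rw [map_pow, aeval_X]
  have hfac : (-aeval K ((X : F[X]) ^ (l + 1) * s) ^ 2) ^ N = aeval K q * K ^ N := by
    rw [hpowX, ← map_pow, ← map_neg, ← map_pow, ← map_mul, hqd]
    refine congrArg (aeval K) ?_
    rw [← mul_pow]
    ring
  have hle : LinearMap.range ((-aeval K ((X : F[X]) ^ (l + 1) * s) ^ 2) ^ N) ≤ E.map (aeval K q) := by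
    rw [hfac, Module.End.mul_eq_comp, LinearMap.range_comp]
  refine lt_of_le_of_lt (Submodule.finrank_mono hle) ?_
  have h1 := LinearMap.finrank_range_add_finrank_ker ((aeval K q).domRestrict E)
  rw [LinearMap.range_domRestrict] at h1
  suffices 0 < finrank F (LinearMap.ker ((aeval K q).domRestrict E)) by omega
  refine Nat.pos_of_ne_zero fun h0 => ?_
  have hmem : (⟨p, hpE⟩ : E) ∈ LinearMap.ker ((aeval K q).domRestrict E) → False := fun hm => by
    rw [Submodule.finrank_eq_zero.1 h0, Submodule.mem_bot] at hm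
    exact hp (congrArg Subtype.val hm)
  refine hmem ?_
  rw [LinearMap.mem_ker, LinearMap.domRestrict_apply]
  show aeval K q p = 0
  refine range_pow_inj K ?_ ?_
  · obtain ⟨y, hy⟩ := hpE
    refine ⟨aeval K q y, ?_⟩
    rw [← hy, ← Module.End.mul_apply, ← Module.End.mul_apply, hpowX, ← map_mul, ← map_mul, mul_comm]
  · have hN0 : 0 < N := by rw [hNd]; exact Module.finrank_pos (R := F) (M := L)
    have h2' : ((-aeval K ((X : F[X]) ^ (l + 1) * s) ^ 2) ^ N) p = 0 := by
      rw [show N = N - 1 + 1 by omega, pow_succ, Module.End.mul_apply, LinearMap.neg_apply, pow_two,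
        Module.End.mul_apply, hcp, map_zero, neg_zero, map_zero]
    have hcm : K ^ N * aeval K q = aeval K q * K ^ N := by
      rw [hpowX, ← map_mul, ← map_mul, mul_comm]
    rw [← Module.End.mul_apply, hcm, ← hfac, h2']

/-- a word for an operator that is not scalar -/
theorem exists_good [Finite F] (h2 : (2 : F) ≠ 0) (K : Module.End F L)
    (hK : ∀ κ : F, K ≠ algebraMap F (Module.End F L) κ) :
    ∃ M ∈ wordGroup F, (Exact K M ∧ ∀ κ : F, aeval K (M 0 0) ≠ algebraMap F (Module.End F L) κ) ∨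
      ((∀ κ : F, -aeval K (M 1 0) ^ 2 ≠ algebraMap F (Module.End F L) κ) ∧
        finrank F (LinearMap.range ((-aeval K (M 1 0) ^ 2) ^ finrank F L)) <
          finrank F (LinearMap.range (K ^ finrank F L))) := by
  classical
  haveI : Nontrivial L := by
    by_contra h
    haveI := not_nontrivial_iff_subsingleton.1 h
    exact hK 0 (Subsingleton.elim _ _)
  set N := finrank F L with hNd
  have hnon : ∀ (f : Module.End F L) (z : L), z ≠ 0 → f z = 0 → f ≠ 0 →
      ∀ κ : F, f ≠ algebraMap F (Module.End F L) κ := fun f z hz hfz hf κ e => by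
    have h1 := LinearMap.congr_fun e z
    rw [hfz, Module.algebraMap_end_apply, eq_comm, smul_eq_zero] at h1
    exact hf (by rw [e, h1.resolve_right hz, map_zero])
  by_cases hinj : Function.Injective K
  · obtain ⟨M, hM, hc⟩ := SpTensor.exists_word h2 K hinj
    rcases hc with ⟨hc0, p, hp, hcp⟩ | ⟨hc0, -, hs⟩
    swap
    · refine ⟨M, hM, Or.inl ⟨Or.inl ⟨hinj, hc0⟩, hs.resolve_left ?_⟩⟩
      rintro ⟨μ, hμ⟩
      exact hK μ (LinearMap.ext fun z => by rw [hμ, Module.algebraMap_end_apply])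
    by_cases hsq : aeval K (M 1 0) ^ 2 = 0
    · exact ⟨_, mul_mem (mul_mem hM (upR_word 1)) (inv_mem hM),
        Or.inl ⟨Or.inl ⟨hinj, by rw [lower_conj, map_neg, map_pow, hsq, neg_zero]⟩, upper_nonscalar K M hc0 hsq⟩⟩
    have hKp : (-aeval K (M 1 0) ^ 2) p = 0 := by
      rw [LinearMap.neg_apply, pow_two, Module.End.mul_apply, hcp, map_zero, neg_zero]
    refine ⟨M, hM, Or.inr ⟨hnon _ p hp hKp (neg_ne_zero.2 hsq), ?_⟩⟩
    have hN0 : 0 < N := Module.finrank_pos
    have htop : LinearMap.range (K ^ N) = ⊤ := LinearMap.range_eq_top.2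
      (LinearMap.injective_iff_surjective.1 (by rw [Module.End.coe_pow]; exact hinj.iterate N))
    rw [htop, finrank_top]
    refine Submodule.finrank_lt fun e => hp ?_
    have hs := LinearMap.injective_iff_surjective.2 (LinearMap.range_eq_top.1 e)
    refine hs ?_
    rw [map_zero, show N = N - 1 + 1 by omega, pow_succ, Module.End.mul_apply, hKp, map_zero]
  obtain ⟨z, hz0, hz⟩ : ∃ z, z ≠ 0 ∧ K z = 0 := by
    by_contra! h
    exact hinj ((injective_iff_map_eq_zero K).2 fun z hz => by_contra fun h0 => h z h0 hz)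
  have hzX : ∀ s : F[X], aeval K (X * s) z = 0 := fun s => by
    rw [mul_comm, map_mul, Module.End.mul_apply, aeval_X, hz, map_zero]
  by_cases hnil : K ^ N = 0
  · -- nilpotent
    obtain ⟨M, hM, ⟨r, hr⟩, ⟨w, hw⟩⟩ := exists_nil_word h2 N
    refine ⟨M, hM, Or.inl ⟨Or.inr ⟨X ^ N * r, by rw [hr, pow_add]; ring, by
      rw [map_mul, map_pow, aeval_X, hnil, zero_mul]⟩, fun κ e => ?_⟩⟩
    rw [show M 0 0 = 1 + (X * (1 + X * w)) by linear_combination hw, map_add, map_one] at e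
    have e' : aeval K (X * (1 + X * w)) = algebraMap F (Module.End F L) (κ - 1) := by
      rw [map_sub, map_one, ← e]; abel
    have hn : IsNilpotent (algebraMap F (Module.End F L) (κ - 1)) := by
      refine ⟨N, ?_⟩
      rw [← e', ← map_pow, mul_pow, map_mul, map_pow, aeval_X, hnil, zero_mul]
    rw [nilpotent_scalar hn, map_zero, map_mul, map_add, map_one, map_mul, aeval_X] at e'
    refine hK 0 ?_
    rw [map_zero]
    have key : ∀ i, K = K ^ (i + 1) * (-aeval K w) ^ i := fun i => by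
      induction i with
      | zero => simp
      | succ i ih =>
        conv_lhs => rw [ih, pow_succ K i]
        have e1 : K = K * K * (-aeval K w) := by
          rw [mul_add, mul_one, ← mul_assoc] at e'
          rw [mul_neg]
          exact eq_neg_of_add_eq_zero_left e'
        conv_lhs => arg 1; arg 2; rw [e1]
        rw [pow_succ K (i + 1), pow_succ K i, pow_succ' (-aeval K w) i]
        simp only [mul_assoc]
    rw [key N, pow_succ, hnil, zero_mul, zero_mul]
  -- a factor away from zero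
  have hint : IsIntegral F K := Algebra.IsIntegral.isIntegral K
  obtain ⟨g, hg, hgX⟩ := exists_eq_pow_rootMultiplicity_mul_and_not_dvd (minpoly F K) (minpoly.ne_zero hint) 0
  rw [map_zero, sub_zero] at hg hgX
  set l := rootMultiplicity 0 (minpoly F K)
  have hgu : ¬ IsUnit g := fun hu => hnil (LinearMap.ext fun x => ker_pow_stable K le_rfl (l := l) (by
    obtain ⟨u, hu⟩ := hu
    have h1 : aeval K (minpoly F K * ((u⁻¹ : F[X]ˣ) : F[X])) = 0 := by rw [map_mul, minpoly.aeval, zero_mul]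
    rw [hg, mul_assoc, ← hu, Units.mul_inv, mul_one, map_pow, aeval_X] at h1
    rw [h1, LinearMap.zero_apply]))
  have hg0 : g ≠ 0 := fun h => minpoly.ne_zero hint (by rw [hg, h, mul_zero])
  obtain ⟨f, hf, hfg⟩ := WfDvdMonoid.exists_irreducible_factor hgu hg0
  have hf0 : ¬ X ∣ f := fun h => hgX (h.trans hfg)
  obtain ⟨p, hp, hpf⟩ : ∃ p : L, p ≠ 0 ∧ aeval K f p = 0 := by
    obtain ⟨q, hq⟩ := hfg.trans (Dvd.intro_left _ hg.symm)
    have hq0 : q ≠ 0 := fun h => minpoly.ne_zero hint (by rw [hq, h, mul_zero])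
    have hne : aeval K q ≠ 0 := fun h => by
      have h1 := Polynomial.natDegree_le_of_dvd (minpoly.dvd F K h) hq0
      rw [hq, Polynomial.natDegree_mul hf.ne_zero hq0] at h1
      have := hf.natDegree_pos
      omega
    obtain ⟨y, hy⟩ : ∃ y, aeval K q y ≠ 0 := by
      by_contra h
      push Not at h
      exact hne (LinearMap.ext h)
    refine ⟨aeval K q y, hy, ?_⟩
    rw [← Module.End.mul_apply, ← map_mul, ← hq, minpoly.aeval, LinearMap.zero_apply]
  have hpE : p ∈ LinearMap.range (K ^ N) := by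
    have hcop : IsCoprime f ((X : F[X]) ^ N) := (hf.coprime_iff_not_dvd.2 fun h =>
      hf0 (hf.associated_of_dvd irreducible_X (hf.prime.dvd_of_dvd_pow (show f ∣ X ^ N from h))).symm.dvd)
    obtain ⟨u, v, huv⟩ := hcop
    refine ⟨aeval K v p, ?_⟩
    have := congrArg (fun q => aeval K q p) huv
    simp only [map_add, map_mul, LinearMap.add_apply, Module.End.mul_apply, hpf, map_zero, zero_add, map_one,
      Module.End.one_apply, map_pow, aeval_X] at this
    rw [← Module.End.mul_apply] at this ⊢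
    rw [show K ^ N * aeval K v = aeval K (v * X ^ N) by rw [mul_comm v, map_mul, map_pow, aeval_X]]
    rw [map_mul, map_pow, aeval_X]
    exact this
  obtain ⟨M, hM, ⟨s, hs⟩, ⟨t, ht⟩, hfc, hfa⟩ := exists_split_word h2 hf hf0 (N + 2)
  have hcp : aeval K (M 1 0) p = 0 := by
    obtain ⟨q, hq⟩ := hfc
    rw [hq, mul_comm, map_mul, Module.End.mul_apply, hpf, map_zero]
  by_cases hc0 : aeval K (M 1 0) = 0
  · refine ⟨M, hM, Or.inl ⟨Or.inr ⟨X ^ N * s, by rw [hs, pow_add]; ring,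
      aeval_stable K le_rfl s (l := N + 2) (by rw [← hs]; exact hc0)⟩, fun κ e => ?_⟩⟩
    have h1 := LinearMap.congr_fun e z
    rw [show M 0 0 = 1 + X * (X ^ (N + 1) * t) by linear_combination ht, map_add, map_one, LinearMap.add_apply,
      hzX, add_zero, Module.End.one_apply, Module.algebraMap_end_apply] at h1
    have hκ : κ = 1 := (smul_left_injective F hz0 (show (1 : F) • z = κ • z by rwa [one_smul])).symm
    subst hκ
    have h3 : aeval K (M 0 0 - 1) p = 0 := by rw [map_sub, e, map_one, map_one, sub_self, LinearMap.zero_apply]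
    obtain ⟨u, v, huv⟩ := hf.coprime_iff_not_dvd.2 hfa
    have := congrArg (fun q => aeval K q p) huv
    simp only [map_add, map_mul, LinearMap.add_apply, Module.End.mul_apply, hpf, h3, map_zero, zero_add, map_one,
      Module.End.one_apply] at this
    exact hp this.symm
  by_cases hsq : aeval K (M 1 0) ^ 2 = 0
  · refine ⟨_, mul_mem (mul_mem hM (upR_word 1)) (inv_mem hM), Or.inl ⟨Or.inr ⟨X ^ N * (-(X ^ (N + 2) * s ^ 2)),
      by rw [lower_conj, hs]; ring, ?_⟩, upper_nonscalar K M hc0 hsq⟩⟩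
    refine aeval_stable K le_rfl _ (l := N + 2) ?_
    rw [show (X : F[X]) ^ (N + 2) * (-(X ^ (N + 2) * s ^ 2)) = -(M 1 0) ^ 2 by rw [hs]; ring, map_neg, map_pow, hsq,
      neg_zero]
  have hKz : (-aeval K (M 1 0) ^ 2) z = 0 := by
    rw [LinearMap.neg_apply, pow_two, Module.End.mul_apply, hs, show N + 2 = N + 1 + 1 from rfl, pow_succ',
      mul_assoc, hzX, map_zero, neg_zero]
  refine ⟨M, hM, Or.inr ⟨hnon _ z hz0 hKz (neg_ne_zero.2 hsq), ?_⟩⟩
  rw [hs] at hcp ⊢
  exact rank_drop K (l := N + 1) hp hpE hcp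

end Cfsg.Agent.ClassicalMax.OTensor
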