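import Cfsg.Agent.ClassicalMax.OTensor.Plane
import Cfsg.Agent.ClassicalMax.OTensor.Words

/-!
Words in the Siegel transformations of two singular planes: either the group has every Siegel transformation, or the
operator of two planes, one moved by an element of the group, is scalar.
-/

set_option autoImplicit false
set_option linter.unusedSectionVars false
set_option linter.style.haveILetI false

namespace Cfsg.Agent.ClassicalMax.OTensor

open Module QuadraticMap Cfsg.Agent.Classical Cfsg.Agent.Classical.Quad Cfsg.Agent.ClassicalMax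
open Cfsg.Agent.RootSub.Dickson (upR lowR wordGroup coe_upR coe_lowR upR_inv lowR_inv)
open scoped MatrixGroups Polynomial

variable {F U W V : Type*} [Field F] [Finite F] [AddCommGroup U] [Module F U] [FiniteDimensional F U]
  [AddCommGroup W] [Module F W] [FiniteDimensional F W] [AddCommGroup V] [Module F V] [FiniteDimensional F V]
  {Q : QuadraticForm F V} {QU : QuadraticForm F U} {QW : QuadraticForm F W} {pt : U →ₗ[F] W →ₗ[F] V}
  {H : Subgroup (oG Q)}

/-- the pairing of two pairs -/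
noncomputable def bb (QU : QuadraticForm F U) (x y : U × U) : F := polar QU x.1 y.1 + polar QU x.2 y.2

theorem bb_J (x y : U × U) : bb QU (jJ F U x) y = -bb QU x (jJ F U y) := by
  simp only [bb, jJ_apply, polar_neg_left, polar_neg_right]
  ring

theorem jJ_jJ (x : U × U) : jJ F U (jJ F U x) = -x := by
  simp [jJ_apply, Prod.ext_iff]

namespace Frame

variable (hF : Frame Q QU QW pt)
include hF

theorem eqE {x y : U × U} (h : ∀ w, bb QU x w = bb QU y w) : x = y :=
  Prod.ext (hF.eqU fun u => by simpa [bb, polar] using h (u, 0)) (hF.eqU fun u => by simpa [bb, polar] using h (0, u))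

theorem polar_io_bb (c d : W) (z : V) (x : U × U) :
    polar Q z (hF.io c d x) = bb QU (hF.iT c d z) x := by
  rw [hF.polar_io, hF.iT_apply]
  rfl

theorem io_inj {c d : W} (hp : Plane QW c d) : Function.Injective (hF.io c d) := fun x y h => hF.eqE fun w => by
  obtain ⟨z, rfl⟩ := hF.iT_surj hp w
  have hc : ∀ a b : U × U, bb QU a b = bb QU b a := fun a b => by
    simp only [bb, polar_comm QU a.1, polar_comm QU a.2]
  rw [hc, hc y, ← hF.polar_io_bb, ← hF.polar_io_bb, h]

/-- the part of a moved plane on another one -/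
noncomputable def pP (g : oG Q) (c d c' d' : W) : Module.End F (U × U) :=
  hF.iT c d ∘ₗ g.1.toLinearMap ∘ₗ hF.io c' d'

theorem pP_apply (g : oG Q) (c d c' d' : W) (x : U × U) :
    hF.pP g c d c' d' x = hF.iT c d (g.1 (hF.io c' d' x)) := rfl

/-- the operator of two planes -/
noncomputable def kK (g : oG Q) (c d c' d' : W) : Module.End F (U × U) :=
  jJ F U ∘ₗ hF.pP g c d c' d' ∘ₗ jJ F U ∘ₗ hF.pP g⁻¹ c' d' c d

theorem bb_pP (g : oG Q) (c d c' d' : W) (x y : U × U) :
    bb QU (hF.pP g c d c' d' x) y = bb QU x (hF.pP g⁻¹ c' d' c d y) := by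
  have hc : ∀ a b : U × U, bb QU a b = bb QU b a := fun a b => by
    simp only [bb, polar_comm QU a.1, polar_comm QU a.2]
  rw [hF.pP_apply, hF.pP_apply, ← hF.polar_io_bb, hc x, ← hF.polar_io_bb, polar_comm Q ((g⁻¹).1 _),
    ← polar_oG g (hF.io c' d' x), oG_apply_inv]

theorem bb_kK (g : oG Q) (c d c' d' : W) (x y : U × U) :
    bb QU (hF.kK g c d c' d' x) y = bb QU x (-(jJ F U (hF.kK g c d c' d' (jJ F U y)))) := by
  simp only [kK, LinearMap.comp_apply]
  rw [bb_J, hF.bb_pP, bb_J, neg_neg, hF.bb_pP, inv_inv, jJ_jJ, neg_neg]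

theorem bb_aeval (g : oG Q) (c d c' d' : W) (f : F[X]) (x y : U × U) :
    bb QU (Polynomial.aeval (hF.kK g c d c' d') f x) y =
      bb QU x (-(jJ F U (Polynomial.aeval (hF.kK g c d c' d') f (jJ F U y)))) := by
  induction f using Polynomial.induction_on generalizing x y with
  | C a =>
    rw [Polynomial.aeval_C, Module.algebraMap_end_apply, Module.algebraMap_end_apply, map_smul, jJ_jJ, smul_neg,
      neg_neg]
    simp [bb, polar_smul_left, polar_smul_right]
  | add p q hp hq =>
    have hadd : ∀ a a' b : U × U, bb QU (a + a') b = bb QU a b + bb QU a' b := fun a a' b => by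
      simp only [bb, Prod.fst_add, Prod.snd_add, polar_add_left]; ring
    have hadd' : ∀ a b b' : U × U, bb QU a (b + b') = bb QU a b + bb QU a b' := fun a b b' => by
      simp only [bb, Prod.fst_add, Prod.snd_add, polar_add_right]; ring
    rw [map_add, LinearMap.add_apply, hadd, hp, hq, LinearMap.add_apply, map_add, neg_add, hadd']
  | monomial n a ih =>
    set K := hF.kK g c d c' d' with hK
    have e : Polynomial.aeval K (Polynomial.C a * Polynomial.X ^ (n + 1)) =
        Polynomial.aeval K (Polynomial.C a * Polynomial.X ^ n) * K := by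
      rw [pow_succ, ← mul_assoc, map_mul, Polynomial.aeval_X]
    have hcom : ∀ z, Polynomial.aeval K (Polynomial.C a * Polynomial.X ^ n) (K z) =
        K (Polynomial.aeval K (Polynomial.C a * Polynomial.X ^ n) z) := fun z => by
      generalize Polynomial.C a * Polynomial.X ^ n = A
      have h : Polynomial.aeval K (A * Polynomial.X) z = Polynomial.aeval K (Polynomial.X * A) z := by rw [mul_comm]
      rwa [map_mul, map_mul, Polynomial.aeval_X, Module.End.mul_apply, Module.End.mul_apply] at h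
    rw [e, Module.End.mul_apply, Module.End.mul_apply, ih, hK, hF.bb_kK, ← hK, map_neg, jJ_jJ, neg_neg, hcom]

theorem rad2_J (hO : Over pt H) {c d : W} (hp : Plane QW c d) (s : F) : hF.Rad2 H c d (s • jJ F U) := by
  have hv : polar QW c (s • d) = 0 := polar_perp_smul hp.hcd s
  refine ⟨hF.lp (1, sO hp.hc hv), hO.sW_mem hF hp.hc hv, fun z => ?_⟩
  refine LinearMap.congr_fun (f := (hF.lp (1, sO hp.hc hv)).1.toLinearMap)
    (g := LinearMap.id + hF.io c d ∘ₗ (s • jJ F U) ∘ₗ hF.iT c d) (hF.ext_pure fun u w => ?_) z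
  simp only [LinearEquiv.coe_coe, hF.lp_pt, oG_one_apply, LinearMap.add_apply, LinearMap.id_apply,
    LinearMap.comp_apply, LinearMap.smul_apply, hF.iT_apply, hF.pW_pt, jJ_apply, hF.io_apply, sO_apply,
    polar_smul_right, Quad.map_smul', hp.hd, polar_comm QW w c, polar_comm QW w d, map_add, map_smul, Prod.smul_mk,
    map_neg, LinearMap.neg_apply, smul_eq_mul]
  module

/-- the word is realised by an element of the group -/
def Rep (H : Subgroup (oG Q)) (g : oG Q) (c d c' d' : W) (M : SL(2, F[X])) : Prop :=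
  ∃ h ∈ H, ∃ (a p q r1 : F[X]) (r0 : F), M 0 0 = 1 + Polynomial.X * p ∧ M 0 1 = a ∧ M 1 1 = 1 + Polynomial.X * q ∧
    M 1 0 = Polynomial.X * (Polynomial.C r0 + Polynomial.X * r1) ∧
    ∀ z, h.1 z = z + hF.io c d (Polynomial.aeval (hF.kK g c d c' d') a (jJ F U (hF.iT c d z))) +
      hF.io c d (Polynomial.aeval (hF.kK g c d c' d') p
        (jJ F U (hF.pP g c d c' d' (jJ F U (hF.iT c' d' ((g⁻¹).1 z)))))) +
      g.1 (hF.io c' d' (jJ F U (hF.pP g⁻¹ c' d' c d
        (Polynomial.aeval (hF.kK g c d c' d') q (jJ F U (hF.iT c d z)))))) +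
      g.1 (hF.io c' d' (r0 • jJ F U (hF.iT c' d' ((g⁻¹).1 z)) + jJ F U (hF.pP g⁻¹ c' d' c d
        (Polynomial.aeval (hF.kK g c d c' d') r1
          (jJ F U (hF.pP g c d c' d' (jJ F U (hF.iT c' d' ((g⁻¹).1 z)))))))))

variable {g : oG Q} {c d c' d' : W}

theorem rep_all (hO : Over pt H) (hg : g ∈ H) (hp : Plane QW c d) (hp' : Plane QW c' d') {M : SL(2, F[X])}
    (hM : M ∈ wordGroup F) : hF.Rep H g c d c' d' M := by
  set K := hF.kK g c d c' d' with hKd
  have hKe : ∀ x, jJ F U (hF.pP g c d c' d' (jJ F U (hF.pP g⁻¹ c' d' c d x))) = K x := fun x => rfl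
  have hup : ∀ (s : F) (N : SL(2, F[X])), hF.Rep H g c d c' d' N →
      hF.Rep H g c d c' d' (upR (Polynomial.C s) * N) := by
    rintro s N ⟨h, hh, a, p, q, r1, r0, e00, e01, e11, e10, hz⟩
    obtain ⟨x, hx, hxz⟩ := hF.rad2_J hO hp s
    refine ⟨x * h, mul_mem hx hh, a + Polynomial.C s * (1 + Polynomial.X * q),
      p + Polynomial.C s * (Polynomial.C r0 + Polynomial.X * r1), q, r1, r0, ?_, ?_, ?_, ?_, fun z => ?_⟩
    · simp [coe_upR, Matrix.SpecialLinearGroup.coe_mul, Matrix.mul_apply, Fin.sum_univ_two, e00, e10]; ring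
    · simp [coe_upR, Matrix.SpecialLinearGroup.coe_mul, Matrix.mul_apply, Fin.sum_univ_two, e01, e11]
    · simp [coe_upR, Matrix.SpecialLinearGroup.coe_mul, Matrix.mul_apply, Fin.sum_univ_two, e11]
    · simp [coe_upR, Matrix.SpecialLinearGroup.coe_mul, Matrix.mul_apply, Fin.sum_univ_two, e10]
    have e1 : jJ F U (hF.iT c d (h.1 z)) = jJ F U (hF.iT c d z) +
        K (Polynomial.aeval K q (jJ F U (hF.iT c d z))) +
        r0 • jJ F U (hF.pP g c d c' d' (jJ F U (hF.iT c' d' ((g⁻¹).1 z)))) +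
        K (Polynomial.aeval K r1 (jJ F U (hF.pP g c d c' d' (jJ F U (hF.iT c' d' ((g⁻¹).1 z)))))) := by
      rw [hz]
      simp only [map_add, hF.iT_io hp, map_zero, map_smul, ← hF.pP_apply, add_zero, hKe]
      abel
    rw [oG_mul_apply, hxz, LinearMap.smul_apply, e1, hz]
    simp only [map_add, map_mul, map_smul, map_one, Polynomial.aeval_C, Polynomial.aeval_X, LinearMap.add_apply,
      Module.End.mul_apply, Module.End.one_apply, Module.algebraMap_end_apply, smul_add, ← hKd]
    module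
  have hlow : ∀ (s : F) (N : SL(2, F[X])), hF.Rep H g c d c' d' N →
      hF.Rep H g c d c' d' (lowR (Polynomial.C s * Polynomial.X) * N) := by
    rintro s N ⟨h, hh, a, p, q, r1, r0, e00, e01, e11, e10, hz⟩
    obtain ⟨x, hx, hxz⟩ := hF.rad2_J hO hp' s
    refine ⟨g * x * g⁻¹ * h, mul_mem (mul_mem (mul_mem hg hx) (inv_mem hg)) hh, a, p,
      q + Polynomial.C s * a, r1 + Polynomial.C s * p, r0 + s, ?_, ?_, ?_, ?_, fun z => ?_⟩
    · simp [coe_lowR, Matrix.SpecialLinearGroup.coe_mul, Matrix.mul_apply, Fin.sum_univ_two, e00]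
    · simp [coe_lowR, Matrix.SpecialLinearGroup.coe_mul, Matrix.mul_apply, Fin.sum_univ_two, e01]
    · simp [coe_lowR, Matrix.SpecialLinearGroup.coe_mul, Matrix.mul_apply, Fin.sum_univ_two, e01, e11]; ring
    · simp [coe_lowR, Matrix.SpecialLinearGroup.coe_mul, Matrix.mul_apply, Fin.sum_univ_two, e00, e10]; ring
    have e1 : jJ F U (hF.iT c' d' ((g⁻¹).1 (h.1 z))) = jJ F U (hF.iT c' d' ((g⁻¹).1 z)) +
        jJ F U (hF.pP g⁻¹ c' d' c d (Polynomial.aeval K a (jJ F U (hF.iT c d z)))) +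
        jJ F U (hF.pP g⁻¹ c' d' c d (Polynomial.aeval K p
          (jJ F U (hF.pP g c d c' d' (jJ F U (hF.iT c' d' ((g⁻¹).1 z))))))) := by
      rw [hz]
      simp only [map_add, oG_inv_apply, hF.iT_io hp', map_zero, ← hF.pP_apply, add_zero, ← hKd]
    rw [oG_mul_apply, oG_mul_apply, oG_mul_apply, hxz, LinearMap.smul_apply, e1, map_add, oG_apply_inv, hz]
    simp only [map_add, map_mul, map_smul, Polynomial.aeval_C, LinearMap.add_apply, Module.End.mul_apply,
      Module.algebraMap_end_apply, add_smul, smul_add, ← hKd]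
    abel
  have h1 : hF.Rep H g c d c' d' 1 :=
    ⟨1, one_mem _, 0, 0, 0, 0, 0, by simp, by simp, by simp, by simp, fun z => by simp⟩
  refine Subgroup.closure_induction_left (p := fun N _ => hF.Rep H g c d c' d' N) h1 ?_ ?_ hM
  · rintro _ (⟨t, rfl⟩ | ⟨t, rfl⟩) N - hN
    · exact hup t N hN
    · exact hlow t N hN
  · rintro _ (⟨t, rfl⟩ | ⟨t, rfl⟩) N - hN
    · have := hup (-t) N hN
      rwa [Polynomial.C_neg, ← upR_inv] at this
    · have := hlow (-t) N hN
      rwa [Polynomial.C_neg, neg_mul, ← lowR_inv] at this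

theorem exists_aniso_plane (c d : W) : ∃ m, polar QW c m = 0 ∧ polar QW d m = 0 ∧ QW m ≠ 0 := by
  by_contra! h
  set S := LinearMap.ker ((polarBilin QW c).prod (polarBilin QW d)) with hSd
  have hS : ∀ u ∈ S, QW u = 0 := fun u hu => by
    simp only [hSd, LinearMap.mem_ker, LinearMap.prod_apply, Function.prod_apply, Prod.mk_eq_zero] at hu
    exact h u hu.1 hu.2
  have h1 := two_mul_finrank_le hF.ndW hS
  have h2 := LinearMap.finrank_range_add_finrank_ker ((polarBilin QW c).prod (polarBilin QW d))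
  have h3 := Submodule.finrank_le (LinearMap.range ((polarBilin QW c).prod (polarBilin QW d)))
  have h4 := hF.dimW
  rw [finrank_prod, finrank_self, ← hSd] at *
  omega

/-- an element preserving the plane with a non-scalar action -/
theorem exact_false (hO : Over pt H) (hne : ¬ eo Q ≤ H) (hp : Plane QW c d) {h : oG Q} (hh : h ∈ H)
    {a : Module.End F (U × U)} (hha : ∀ y, h.1 (hF.io c d y) = hF.io c d (a y))
    (hhx : ∀ x, hF.iT c d x = 0 → ∃ y, h.1 x = x + hF.io c d y)
    (hadj : ∀ x y, bb QU (a x) y = bb QU x (-(jJ F U (a (jJ F U y)))))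
    (hns : ∀ κ : F, a ≠ algebraMap F (Module.End F (U × U)) κ) : False := by
  obtain ⟨m, hcm, hdm, hm⟩ := hF.exists_aniso_plane c d
  set D : Module.End F (U × U) := -(jJ F U ∘ₗ a ∘ₗ jJ F U) with hD
  have hT : ∀ z, hF.iT c d ((h⁻¹).1 z) = D (hF.iT c d z) := fun z => hF.eqE fun y => by
    have hc : ∀ a b : U × U, bb QU a b = bb QU b a := fun a b => by
      simp only [bb, polar_comm QU a.1, polar_comm QU a.2]
    rw [← hF.polar_io_bb, ← polar_oG h, oG_apply_inv, hha, hF.polar_io_bb, hc, hadj, hc]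
    rfl
  have hasurj : Function.Surjective a := by
    refine LinearMap.injective_iff_surjective.1 fun x y e => ?_
    exact hF.io_inj hp (h.1.injective (by rw [hha, hha, e]))
  have hinvT : ∀ y, ∃ y', (h⁻¹).1 (hF.io c d y) = hF.io c d y' := fun y => by
    obtain ⟨y', rfl⟩ := hasurj y
    exact ⟨y', by rw [← hha, oG_inv_apply]⟩
  have hTm : ∀ u, hF.iT c d (pt u m) = 0 := fun u => by
    rw [hF.iT_apply, hF.pW_pt, hF.pW_pt, hcm, hdm, zero_smul, Prod.mk_zero_zero]
  -- the commutator
  have key : ∀ (e₁ e₂ : W) (E₁ E₂ : U →ₗ[F] U × U) (pr₁ pr₂ : U × U →ₗ[F] U)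
      (he₁ : QW e₁ = 0) (he₂ : QW e₂ = 0) (h1m : polar QW e₁ m = 0) (h2m : polar QW e₂ m = 0),
      (polar QW e₁ c = 0 ∧ polar QW e₁ d = 0) → (polar QW e₂ c = 0 ∧ polar QW e₂ d = 0) →
      (∀ u, hF.io c d (E₁ u) = pt u e₁) → (∀ u, hF.io c d (E₂ u) = pt u e₂) →
      (∀ z, pr₁ (hF.iT c d z) = hF.pW e₁ z) → (∀ z, pr₂ (hF.iT c d z) = hF.pW e₂ z) →
      hF.Rad2 H c d ((2 * QW m) • (E₂ ∘ₗ pr₁ ∘ₗ D - a ∘ₗ E₁ ∘ₗ pr₂)) := by
    intro e₁ e₂ E₁ E₂ pr₁ pr₂ he₁ he₂ h1m h2m h1 h2 hE₁ hE₂ hpr₁ hpr₂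
    have hk : ∀ (e : W) (he : QW e = 0) (hem : polar QW e m = 0) (z : V),
        (hF.lp (1, sO he hem)).1 z =
          z + pt (hF.pW m z) e - pt (hF.pW e z) m - QW m • pt (hF.pW e z) e := fun e he hem z => by
      refine LinearMap.congr_fun (f := (hF.lp (1, sO he hem)).1.toLinearMap) (g := LinearMap.id +
        pt.flip e ∘ₗ hF.pW m - pt.flip m ∘ₗ hF.pW e - QW m • (pt.flip e ∘ₗ hF.pW e)) (hF.ext_pure fun u w => ?_) z
      simp only [LinearEquiv.coe_coe, hF.lp_pt, oG_one_apply, LinearMap.add_apply, LinearMap.sub_apply,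
        LinearMap.id_apply, LinearMap.comp_apply, LinearMap.smul_apply, LinearMap.flip_apply, hF.pW_pt, sO_apply,
        polar_comm QW w m, polar_comm QW w e, map_add, map_smul]
      module
    set k₁ := hF.lp (1, sO he₁ h1m) with hk₁
    set k₂ := hF.lp (1, sO he₂ h2m) with hk₂
    set τ := h * k₁ * h⁻¹ with hτ
    have hτm : τ ∈ H := mul_mem (mul_mem hh (hO.sW_mem hF he₁ h1m)) (inv_mem hh)
    have hfix : ∀ (e : W) (he : QW e = 0) (hem : polar QW e m = 0), (polar QW e c = 0 ∧ polar QW e d = 0) →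
        ∀ y, (hF.lp (1, sO he hem)).1 (hF.io c d y) = hF.io c d y := fun e he hem hcd y => by
      rw [hk, hF.io_apply, map_add (hF.pW m), map_add (hF.pW e), hF.pW_pt, hF.pW_pt, hF.pW_pt, hF.pW_pt,
        polar_comm QW m c, hcm, polar_comm QW m d, hdm, hcd.1, hcd.2]
      simp
    have hm' : ∀ v, ∃ y, (h⁻¹).1 (pt v m) = pt v m + hF.io c d y := fun v => by
      obtain ⟨y, hy⟩ := hhx _ (hTm v)
      obtain ⟨y', hy'⟩ := hinvT y
      refine ⟨-y', h.1.injective ?_⟩
      rw [oG_apply_inv, map_neg, map_add, map_neg, hy, ← hy', oG_apply_inv, add_neg_cancel_right]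
    have τm : ∀ v, τ.1 (pt v m) = pt v m + (2 * QW m) • hF.io c d (a (E₁ v)) := fun v => by
      obtain ⟨y, hy⟩ := hm' v
      rw [hτ, oG_mul_apply, oG_mul_apply, hy, map_add k₁.1, hk₁, hfix e₁ he₁ h1m h1, hk, hF.pW_pt, hF.pW_pt, h1m,
        zero_smul, map_zero, LinearMap.zero_apply, LinearMap.zero_apply, smul_zero, sub_zero, sub_zero, polar_self',
        map_smul, LinearMap.smul_apply, ← hE₁, add_right_comm, ← hy, map_add, oG_apply_inv, map_smul, hha]
    have τT : ∀ y, τ.1 (hF.io c d y) = hF.io c d y := fun y => by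
      obtain ⟨y', hy'⟩ := hinvT y
      rw [hτ, oG_mul_apply, oG_mul_apply, hy', hk₁, hfix e₁ he₁ h1m h1, ← hy', oG_apply_inv]
    have τz : ∀ z, ∃ y, τ.1 z = z - pt (pr₁ (D (hF.iT c d z))) m + hF.io c d y := fun z => by
      obtain ⟨y, hy⟩ := hhx _ (hTm (pr₁ (D (hF.iT c d z))))
      refine ⟨a (E₁ (hF.pW m ((h⁻¹).1 z))) - y - QW m • a (E₁ (pr₁ (D (hF.iT c d z)))), ?_⟩
      rw [hτ, oG_mul_apply, oG_mul_apply, hk₁, hk, ← hpr₁, hT, map_sub h.1, map_sub h.1, map_add h.1, oG_apply_inv,
        hy, ← hE₁, ← hE₁, map_smul h.1, hha, hha, map_sub, map_sub, map_smul]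
      abel
    refine ⟨τ * k₂ * (k₂ * τ)⁻¹, mul_mem (mul_mem hτm (hO.sW_mem hF he₂ h2m))
      (inv_mem (mul_mem (hO.sW_mem hF he₂ h2m) hτm)), fun w => ?_⟩
    obtain ⟨z, rfl⟩ : ∃ z, (k₂ * τ).1 z = w := ⟨_, oG_apply_inv (k₂ * τ) w⟩
    rw [oG_mul_apply, oG_inv_apply, oG_mul_apply]
    obtain ⟨y₁, hy₁⟩ := τz z
    obtain ⟨y₂, hy₂⟩ : ∃ y, k₂.1 z = z - pt (pr₂ (hF.iT c d z)) m + hF.io c d y :=
      ⟨E₂ (hF.pW m z) - QW m • E₂ (hF.pW e₂ z), by
        rw [hk₂, hk, hpr₂, map_sub, map_smul, hE₂, hE₂]; abel⟩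
    have e2m : ∀ v, k₂.1 (pt v m) = pt v m + (2 * QW m) • hF.io c d (E₂ v) := fun v => by
      rw [hk₂, hk, hF.pW_pt, hF.pW_pt, h2m, zero_smul, map_zero, LinearMap.zero_apply, LinearMap.zero_apply,
        smul_zero, sub_zero, sub_zero, polar_self', map_smul, LinearMap.smul_apply, hE₂]
    have eT : hF.iT c d (k₂.1 (τ.1 z)) = hF.iT c d z := by
      rw [hy₁, map_add, map_sub, hy₂, e2m, hk₂, hfix e₂ he₂ h2m h2]
      simp only [map_add, map_sub, map_smul, hTm, hF.iT_io hp, smul_zero, sub_zero, add_zero]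
    have eC : τ.1 (k₂.1 z) = k₂.1 (τ.1 z) + hF.io c d
        (((2 * QW m) • (E₂ ∘ₗ pr₁ ∘ₗ D - a ∘ₗ E₁ ∘ₗ pr₂)) (hF.iT c d z)) := by
      rw [hy₂, map_add, map_sub, τT, τm, hy₁, map_add, map_sub, hy₂, e2m, hk₂, hfix e₂ he₂ h2m h2]
      simp only [LinearMap.smul_apply, LinearMap.sub_apply, LinearMap.comp_apply, map_smul, map_sub]
      module
    rw [oG_mul_apply k₂ τ, eT, eC]
  have hq := mul_ne_zero hF.two hm
  obtain ⟨μ, hμ⟩ := hF.rad2_scalar hO hne hp (key c d (LinearMap.inl F U U) (LinearMap.inr F U U)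
    (LinearMap.fst F U U) (LinearMap.snd F U U) hp.hc hp.hd hcm hdm ⟨polar_sing hp.hc, hp.hcd⟩
    ⟨by rw [polar_comm, hp.hcd], polar_sing hp.hd⟩ (fun u => by simp [hF.io_apply]) (fun u => by simp [hF.io_apply])
    (fun z => rfl) (fun z => rfl))
  obtain ⟨μ', hμ'⟩ := hF.rad2_scalar hO hne hp (key d c (LinearMap.inr F U U) (LinearMap.inl F U U)
    (LinearMap.snd F U U) (LinearMap.fst F U U) hp.hd hp.hc hdm hcm ⟨by rw [polar_comm, hp.hcd], polar_sing hp.hd⟩
    ⟨polar_sing hp.hc, hp.hcd⟩ (fun u => by simp [hF.io_apply]) (fun u => by simp [hF.io_apply]) (fun z => rfl)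
    (fun z => rfl))
  refine hns ((2 * (2 * QW m))⁻¹ * (μ' - μ)) (LinearMap.ext fun x => ?_)
  obtain ⟨y, rfl⟩ : ∃ y, jJ F U y = x := ⟨-(jJ F U x), by rw [map_neg, jJ_jJ, neg_neg]⟩
  have e1 : ∀ v : U × U, LinearMap.inl F U U v.2 - LinearMap.inr F U U v.1 = jJ F U v := fun v => by
    simp [jJ_apply]
  have h1 := LinearMap.congr_fun hμ y
  have h2 := LinearMap.congr_fun hμ' y
  simp only [LinearMap.smul_apply, LinearMap.sub_apply, LinearMap.comp_apply, LinearMap.fst_apply,
    LinearMap.snd_apply] at h1 h2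
  have h3 : (2 * QW m) • (jJ F U (D y) + a (jJ F U y)) = (μ' - μ) • jJ F U y := by
    rw [sub_smul, ← h1, ← h2, ← e1, ← e1, map_sub]
    module
  rw [show jJ F U (D y) = a (jJ F U y) by
    rw [hD, LinearMap.neg_apply, map_neg, LinearMap.comp_apply, LinearMap.comp_apply, jJ_jJ, neg_neg],
    ← two_smul F, smul_smul, mul_comm (2 * QW m)] at h3
  rw [Module.algebraMap_end_apply, ← smul_smul, ← h3, inv_smul_smul₀ (mul_ne_zero hF.two hq)]

/-- the operator of two planes is scalar -/
theorem kK_scalar (hO : Over pt H) (hne : ¬ eo Q ≤ H) :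
    ∀ (n : ℕ) (g : oG Q) (c d c' d' : W), g ∈ H → Plane QW c d → Plane QW c' d' →
      finrank F (LinearMap.range (hF.kK g c d c' d' ^ finrank F (U × U))) = n →
      ∃ κ : F, hF.kK g c d c' d' = algebraMap F (Module.End F (U × U)) κ := by
  intro n
  induction n using Nat.strong_induction_on with
  | _ n ih =>
    intro g c d c' d' hg hp hp' hn
    by_contra hns
    simp only [not_exists] at hns
    set K := hF.kK g c d c' d' with hKd
    obtain ⟨M, hM, hMc⟩ := exists_good hF.two K hns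
    obtain ⟨h, hh, a, p, q, r1, r0, e00, e01, e11, e10, hz⟩ := hF.rep_all hO hg hp hp' hM
    set r := Polynomial.C r0 + Polynomial.X * r1 with hr
    have hKe : ∀ x, jJ F U (hF.pP g c d c' d' (jJ F U (hF.pP g⁻¹ c' d' c d x))) = K x := fun x => rfl
    have hio : ∀ y, h.1 (hF.io c d y) = hF.io c d (Polynomial.aeval K (M 0 0) y) +
        g.1 (hF.io c' d' (jJ F U (hF.pP g⁻¹ c' d' c d (Polynomial.aeval K r y)))) := fun y => by
      rw [hz, ← hF.pP_apply g⁻¹ c' d' c d y, hF.iT_io hp, hKe, e00, hr]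
      simp only [map_add, map_mul, map_one, map_zero, map_smul, Polynomial.aeval_C, Polynomial.aeval_X,
        LinearMap.add_apply, Module.End.mul_apply, Module.End.one_apply, Module.algebraMap_end_apply, add_zero,
        ← hKd]
      have hcom : ∀ f : F[X], Polynomial.aeval K f (K y) = K (Polynomial.aeval K f y) := fun f => by
        have := congrArg (fun f' => Polynomial.aeval K f' y) (mul_comm f Polynomial.X)
        simpa only [map_mul, Polynomial.aeval_X, Module.End.mul_apply] using this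
      rw [hcom, hcom]
    rcases hMc with ⟨hex, hns'⟩ | ⟨hns', hlt⟩
    · -- the plane is preserved
      have hO' : ∀ x, r0 • jJ F U x + jJ F U (hF.pP g⁻¹ c' d' c d
          (Polynomial.aeval K r1 (jJ F U (hF.pP g c d c' d' (jJ F U x))))) = 0 := by
        rcases hex with ⟨hinj, h0⟩ | ⟨r', hr', hr1⟩
        · intro x
          have hPa : Function.Surjective (hF.pP g⁻¹ c' d' c d) := LinearMap.injective_iff_surjective.1
            fun u v e => hinj (by rw [← hKe, ← hKe v, e])
          obtain ⟨y, rfl⟩ := hPa x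
          have hr0 : Polynomial.aeval K r y = 0 := hinj (by
            have h1 := LinearMap.congr_fun h0 y
            rwa [e10, map_mul, Polynomial.aeval_X, Module.End.mul_apply, LinearMap.zero_apply, ← map_zero K] at h1)
          rw [hKe, ← map_smul, ← map_smul, ← map_add (jJ F U), ← map_add (hF.pP g⁻¹ c' d' c d)]
          rw [show r0 • y + Polynomial.aeval K r1 (K y) = Polynomial.aeval K r y by
            rw [hr, mul_comm, map_add, map_mul, LinearMap.add_apply, Module.End.mul_apply, Polynomial.aeval_X,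
              Polynomial.aeval_C, Module.algebraMap_end_apply], hr0, map_zero, map_zero]
        · intro x
          have h1 : r = Polynomial.X * r' := mul_left_cancel₀ (Polynomial.X_ne_zero (R := F)) (by
            rw [← e10, hr', pow_two, mul_assoc])
          have hr00 : r0 = 0 := by
            have := congrArg (fun f : F[X] => f.coeff 0) h1
            simpa [hr] using this
          have h2 : r1 = r' := mul_left_cancel₀ (Polynomial.X_ne_zero (R := F)) (by
            rw [← h1, hr, hr00, Polynomial.C_0, zero_add])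
          rw [hr00, h2, hr1, zero_smul, zero_add, LinearMap.zero_apply, map_zero, map_zero]
      refine hF.exact_false hO hne hp hh (a := Polynomial.aeval K (M 0 0)) (fun y => ?_) (fun x hx => ?_)
        (fun x y => hF.bb_aeval g c d c' d' _ x y) hns'
      · rw [hio, hr, map_add, map_mul, LinearMap.add_apply, Module.End.mul_apply, Polynomial.aeval_C,
          Polynomial.aeval_X, Module.algebraMap_end_apply, map_add (hF.pP g⁻¹ c' d' c d), map_smul, map_add,
          map_smul]
        have := hO' (hF.pP g⁻¹ c' d' c d y)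
        rw [hKe, show Polynomial.aeval K r1 (K y) = K (Polynomial.aeval K r1 y) by
          have h2 := congrArg (fun f' => Polynomial.aeval K f' y) (mul_comm r1 Polynomial.X)
          simpa only [map_mul, Polynomial.aeval_X, Module.End.mul_apply] using h2] at this
        rw [this, map_zero, map_zero, add_zero]
      · refine ⟨Polynomial.aeval K p (jJ F U (hF.pP g c d c' d' (jJ F U (hF.iT c' d' ((g⁻¹).1 x))))), ?_⟩
        rw [hz, hx, ← hKd, hO']
        simp
    · -- the stable rank drops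
      refine absurd (ih _ (hn ▸ ?_) h c d c d hh hp hp rfl) ?_
      all_goals
        have hf : ∀ y, hF.pP h c d c d y = -(jJ F U (Polynomial.aeval K (M 1 0) y)) := fun y => by
          rw [hF.pP_apply, hio, map_add, hF.iT_io hp, zero_add, ← hF.pP_apply, e10, map_mul, Polynomial.aeval_X,
            Module.End.mul_apply, ← hKe (Polynomial.aeval K r y), jJ_jJ, neg_neg]
        have hfa : ∀ y, hF.pP h⁻¹ c d c d y = jJ F U (Polynomial.aeval K (M 1 0) y) := fun y => hF.eqE fun x => by
          have hc : ∀ a b : U × U, bb QU a b = bb QU b a := fun a b => by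
            simp only [bb, polar_comm QU a.1, polar_comm QU a.2]
          rw [hc, ← hF.bb_pP, hf, hc _ x]
          have hneg : ∀ a b : U × U, bb QU (-a) b = -bb QU a b := fun a b => by
            simp only [bb, Prod.fst_neg, Prod.snd_neg, polar_neg_left]; ring
          rw [hneg, bb_J, neg_neg, hF.bb_aeval, jJ_jJ, map_neg, map_neg, neg_neg]
        have hK' : hF.kK h c d c d = -Polynomial.aeval K (M 1 0) ^ 2 := LinearMap.ext fun y => by
          simp only [kK, LinearMap.comp_apply, hf, hfa, map_neg, jJ_jJ, neg_neg, LinearMap.neg_apply, pow_two,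
            Module.End.mul_apply]
        rw [hK']
      · exact fun ⟨κ, e⟩ => hns' κ e
      · exact hlt

end Frame

end Cfsg.Agent.ClassicalMax.OTensor
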