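import Cfsg.Agent.ClassicalMax.OTensor.Spread

/-!
An element supported on `U ⊗ c`, for a singular vector `c` of the second factor, gives every Siegel transformation.
-/

set_option autoImplicit false
set_option linter.unusedSectionVars false
set_option linter.style.haveILetI false

namespace Cfsg.Agent.ClassicalMax.OTensor

open Module QuadraticMap Cfsg.Agent.Classical Cfsg.Agent.Classical.Quad Cfsg.Agent.ClassicalMax
open Cfsg.Agent.ClassicalMax.RootPlanes (Pl)

variable {F U W V : Type*} [Field F] [Finite F] [AddCommGroup U] [Module F U] [FiniteDimensional F U]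
  [AddCommGroup W] [Module F W] [FiniteDimensional F W] [AddCommGroup V] [Module F V] [FiniteDimensional F V]
  {Q : QuadraticForm F V} {QU : QuadraticForm F U} {QW : QuadraticForm F W} {pt : U →ₗ[F] W →ₗ[F] V}
  {H : Subgroup (oG Q)}

theorem two_ne_card (h2 : (2 : F) ≠ 0) : Nat.card F ≠ 2 := fun h' => h2 (by
  letI := Fintype.ofFinite F
  have h := Nat.cast_card_eq_zero F
  rw [← Nat.card_eq_fintype_card, h'] at h
  exact_mod_cast h)

/-- an anisotropic vector orthogonal to a singular vector and a hyperbolic pair orthogonal to it -/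
theorem exists_aniso_perp_three {X : Type*} [AddCommGroup X] [Module F X] [FiniteDimensional F X]
    {R : QuadraticForm F X} (hR : (polarBilin R).Nondegenerate) (hn : 5 ≤ finrank F X) {p y z : X} (hp0 : p ≠ 0)
    (hp : R p = 0) (hy : R y = 0) (hz : R z = 0) (hyz : polar R y z = 1) (hpy : polar R p y = 0)
    (hpz : polar R p z = 0) : ∃ u, polar R p u = 0 ∧ polar R y u = 0 ∧ polar R z u = 0 ∧ R u ≠ 0 := by
  have hd := finrank_perpPair hy hz hyz
  have hpP : p ∈ perpPair R y z := mem_perpPair.2 ⟨by rw [polar_comm, hpy], by rw [polar_comm, hpz]⟩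
  have hnd := nondeg_restrictPair hR hy hz hyz
  obtain ⟨g, hg, hpg⟩ := exists_hyp_pair hnd (p := ⟨p, hpP⟩) (fun e' => hp0 (congrArg Subtype.val e')) hp
  obtain ⟨u, hu1, hu2, hu3⟩ := exists_aniso_perp hnd (by omega) hp hg hpg
  exact ⟨u, hu1, (mem_perpPair.1 u.2).1, (mem_perpPair.1 u.2).2, hu3⟩

namespace Frame

variable (hF : Frame Q QU QW pt)
include hF

/-- the group has the element `z ↦ z + S (π z) ⊗ c` -/
def RadW (H : Subgroup (oG Q)) (c : W) (S : U →ₗ[F] U) : Prop :=
  ∃ h ∈ H, ∀ z, h.1 z = z + pt (S (hF.pW c z)) c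

variable {c : W}

theorem radW_add (hc : QW c = 0) {S S' : U →ₗ[F] U} (h : hF.RadW H c S) (h' : hF.RadW H c S') :
    hF.RadW H c (S + S') := by
  obtain ⟨g, hg, hz⟩ := h
  obtain ⟨g', hg', hz'⟩ := h'
  refine ⟨g * g', mul_mem hg hg', fun z => ?_⟩
  rw [oG_mul_apply, hz, hz', map_add (hF.pW c), hF.pW_pt, polar_sing hc, zero_smul, add_zero, LinearMap.add_apply,
    map_add pt, LinearMap.add_apply, add_assoc, add_comm (pt (S' _) c)]

theorem radW_neg (hc : QW c = 0) {S : U →ₗ[F] U} (h : hF.RadW H c S) : hF.RadW H c (-S) := by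
  obtain ⟨g, hg, hz⟩ := h
  refine ⟨g⁻¹, inv_mem hg, fun z => g.1.injective ?_⟩
  rw [oG_apply_inv, hz, map_add (hF.pW c), hF.pW_pt, polar_sing hc, zero_smul, add_zero, LinearMap.neg_apply,
    map_neg pt, LinearMap.neg_apply, neg_add_cancel_right]

theorem radW_sub (hc : QW c = 0) {S S' : U →ₗ[F] U} (h : hF.RadW H c S) (h' : hF.RadW H c S') :
    hF.RadW H c (S - S') := sub_eq_add_neg S S' ▸ hF.radW_add hc h (hF.radW_neg hc h')

theorem radW_conj (hO : Over pt H) {S : U →ₗ[F] U} (h : hF.RadW H c S) {p v : U} (hp : QU p = 0)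
    (hv : polar QU p v = 0) :
    hF.RadW H c ((sO hp hv).1.toLinearMap ∘ₗ S ∘ₗ (sO hp (polar_perp_neg hv)).1.toLinearMap) := by
  obtain ⟨g, hg, hz⟩ := h
  have hk := hO.sU_mem hF hp hv
  have hk' := hO.sU_mem hF hp (polar_perp_neg hv)
  refine ⟨hF.lp (sO hp hv, 1) * g * hF.lp (sO hp (polar_perp_neg hv), 1), mul_mem (mul_mem hk hg) hk', fun z => ?_⟩
  have e1 : hF.pW c ((hF.lp (sO hp (polar_perp_neg hv), 1)).1 z) = (sO hp (polar_perp_neg hv)).1 (hF.pW c z) := by
    simpa using hF.pW_lp (sO hp (polar_perp_neg hv)) 1 c z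
  have e2 : (hF.lp (sO hp hv, 1)).1 ((hF.lp (sO hp (polar_perp_neg hv), 1)).1 z) = z := by
    rw [← oG_mul_apply, ← map_mul, Prod.mk_mul_mk, one_mul, ← sO_inv hp hv, mul_inv_cancel, ← Prod.one_eq_mk, map_one,
      oG_one_apply]
  rw [oG_mul_apply, oG_mul_apply, hz, e1, map_add, e2, hF.lp_pt]
  rfl

theorem pl_of_radW (hc : QW c = 0) {e w : U} (he : QU e = 0) (hew : polar QU e w = 0)
    (h : ∀ l : F, hF.RadW H c (l • skP QU e w)) : Pl H (pt e c) (pt w c) := by
  refine ⟨hF.pure_sing' e hc, hF.pure_sing' w hc, by rw [hF.prod, hew, zero_mul], fun l hu hh => ?_⟩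
  obtain ⟨g, hg, hz⟩ := h l
  have : sO hu hh = g := ext_oG fun z => by
    rw [hz, sO_apply, LinearMap.smul_apply, skP_apply, Quad.map_smul', hF.pure_sing' w hc, polar_smul_right,
      polar_comm Q z (pt w c), polar_comm Q z (pt e c), ← hF.polar_pW, ← hF.polar_pW, polar_comm QU _ e,
      polar_comm QU _ w, smul_eq_mul]
    simp only [map_sub, map_smul, LinearMap.sub_apply, LinearMap.smul_apply]
    module
  exact this ▸ hg

/-- a non-zero element supported on `U ⊗ c` gives every Siegel transformation -/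
theorem eo_le_of_radW (hO : Over pt H) (hc0 : c ≠ 0) (hc : QW c = 0) {S : U →ₗ[F] U}
    (hS : ∀ x y, polar QU (S x) y = -polar QU x (S y)) (h0 : S ≠ 0) (h : hF.RadW H c S) : eo Q ≤ H := by
  have h2 := hF.two
  have hU := hF.dimU
  obtain ⟨p, hp, hSp⟩ := exists_moved h2 hF.ndU hU hS h0
  have hp0 : p ≠ 0 := fun e' => hSp (by rw [e', map_zero]; exact Submodule.zero_mem _)
  have hskew : ∀ a b, polar QU b (S a) = -polar QU a (S b) := fun a b => by rw [polar_comm, hS]
  have hdiag : ∀ a, polar QU a (S a) = 0 := fun a =>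
    (mul_eq_zero.1 (show (2 : F) * polar QU a (S a) = 0 by linear_combination hskew a a)).resolve_left h2
  set y := S p with hyd
  -- the second difference
  have hW : ∀ (v : U), polar QU p v = 0 →
      Pl H (pt p c) (pt ((2 * polar QU v y) • v - (2 * QU v) • y) c) := by
    intro v hpv
    set w := (2 * polar QU v y) • v - (2 * QU v) • y with hwd
    have hpw : polar QU p w = 0 := by
      rw [hwd, polar_sub_right, polar_smul_right, polar_smul_right, hpv, hyd, hdiag, smul_zero, smul_zero, sub_zero]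
    have key : ∀ t : F, hF.RadW H c ((-(t ^ 2)) • skP QU p w) := by
      intro t
      have ht := polar_perp_smul hpv t
      have hc' := hF.radW_sub hc (hF.radW_sub hc (hF.radW_add hc (hF.radW_conj hO h hp ht)
        (hF.radW_conj hO h hp (polar_perp_neg ht))) h) h
      convert hc' using 1
      have e1 : sO hp (polar_perp_neg (polar_perp_neg ht)) = sO hp ht := sO_congr hp _ _ (neg_neg _)
      rw [e1]
      refine LinearMap.ext fun x => ?_
      have f1 : polar QU p (S v) = -polar QU v y := hskew v p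
      have f2 : ∀ x, polar QU p (S x) = -polar QU x y := fun x => hskew x p
      simp only [LinearMap.smul_apply, skP_apply, hwd, LinearMap.sub_apply, LinearMap.add_apply, LinearMap.comp_apply,
        LinearEquiv.coe_coe, sO_apply, polar_sub_left, polar_add_left, polar_smul_left, polar_neg_right,
        polar_smul_right, QuadraticMap.map_neg, Quad.map_smul', map_add, map_smul, map_neg, map_sub, ← hyd,
        polar_comm QU _ p, polar_comm QU _ v, f1, f2, hdiag, hpv, polar_sing hp, polar_self', smul_eq_mul]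
      simp only [polar_comm QU _ y]
      have f3 : polar QU y p = 0 := by rw [polar_comm]; exact hdiag p
      simp only [f3, mul_zero, zero_mul, neg_zero, add_zero, zero_smul, sub_zero]
      module
    refine hF.pl_of_radW hc hp hpw fun l => ?_
    obtain ⟨a, b, hab⟩ := two_squares h2 (-l)
    rw [show l = -(a ^ 2) + -(b ^ 2) by linear_combination -hab, add_smul]
    exact hF.radW_add hc (key a) (key b)
  have hpy : polar QU p y = 0 := hdiag p
  -- two non-orthogonal parameters
  obtain ⟨w, w', hw, hw', hpw, hpw', hww⟩ : ∃ w w', Pl H (pt p c) (pt w c) ∧ Pl H (pt p c) (pt w' c) ∧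
      polar QU p w = 0 ∧ polar QU p w' = 0 ∧ polar QU w w' ≠ 0 := by
    by_cases hy : QU y = 0
    swap
    · have hc1 : 2 * QU y ≠ 0 := mul_ne_zero h2 hy
      have := (hW y hpy).smul_right (2 * QU y)⁻¹
      rw [polar_self', show (2 * (2 * QU y)) • y - (2 * QU y) • y = (2 * QU y) • y by module, map_smul pt,
        LinearMap.smul_apply, inv_smul_smul₀ hc1] at this
      exact ⟨y, y, this, this, hpy, hpy, by rwa [polar_self']⟩
    have h5 : 5 ≤ finrank F U := by
      by_contra h4
      exact hSp (hF.ell (by omega) p y hp hy hpy hp0)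
    obtain ⟨z₀, hz₀, hyz₀⟩ := exists_perp hF.ndU hSp
    set z := z₀ + (-QU z₀) • y
    have hzp : polar QU p z = 0 :=
      polar_perp_add (hz₀ p (Submodule.mem_span_singleton_self p)) (polar_perp_smul hpy _)
    have hz : QU z = 0 := by rw [map_add_smul, hy, polar_comm QU z₀ y, hyz₀]; ring
    have hyz : polar QU y z = 1 := by
      rw [polar_add_right, polar_smul_right, polar_sing hy, hyz₀, smul_zero, add_zero]
    obtain ⟨r, hpr, hyr, hzr, hr⟩ := exists_aniso_perp_three hF.ndU h5 hp0 hp hy hz hyz hpy hzp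
    have mk : ∀ z, QU z = 0 → polar QU p z = 0 → polar QU y z = 1 → Pl H (pt p c) (pt z c) := fun z hz hpz hyz => by
      have := (hW (z + y) (polar_perp_add hpz hpy)).smul_right (2 : F)⁻¹
      rw [map_add', hz, hy, polar_add_left, polar_sing hy, polar_comm QU z y, hyz,
        show (2 * ((1 : F) + 0)) • (z + y) - (2 * ((0 : F) + 0 + 1)) • y = (2 : F) • z by module, map_smul pt,
        LinearMap.smul_apply, inv_smul_smul₀ h2] at this
      exact this
    set z' := z + r + (-QU r) • y
    have hz'p : polar QU p z' = 0 := polar_perp_add (polar_perp_add hzp hpr) (polar_perp_smul hpy _)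
    have hz' : QU z' = 0 := by
      rw [map_add_smul, map_add', hz, hy, hzr, polar_add_left, polar_comm QU z y, hyz, polar_comm QU r y, hyr]; ring
    have hyz' : polar QU y z' = 1 := by
      rw [polar_add_right, polar_add_right, polar_smul_right, hyz, hyr, polar_sing hy, smul_zero, add_zero, add_zero]
    refine ⟨z, z', mk z hz hzp hyz, mk z' hz' hz'p hyz', hzp, hz'p, ?_⟩
    rw [polar_add_right, polar_add_right, polar_smul_right, polar_sing hz, hzr, polar_comm QU z y, hyz, smul_eq_mul,
      mul_one, zero_add, zero_add]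
    exact neg_ne_zero.2 hr
  -- moving the centre
  obtain ⟨f, hf, hcf⟩ := exists_hyp_pair hF.ndW hc0 hc
  have hWd := hF.dimW
  have hf0 : f ≠ 0 := fun e' => by rw [e'] at hcf; simp [polar] at hcf
  obtain ⟨g, hg, t, ht, hge⟩ := exists_eo_point hF.ndW (by omega) hc0 hc hf0 hf
  rw [eo_eq_commutator hF.ndW (by omega) (Or.inl (two_ne_card h2))] at hg
  have h1 := ((hw'.conj (hO.lp_mem hF (one_mem _) hg)).smul_left t⁻¹).smul_right t⁻¹
  rw [hF.lp_pt, hF.lp_pt, hge, oG_one_apply, oG_one_apply, map_smul (pt p), map_smul (pt w'), inv_smul_smul₀ ht,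
    inv_smul_smul₀ ht] at h1
  have h3 : Pl H (pt p c) (pt p f) := hw.rule h1.symm (by rw [hF.prod, hpw', zero_mul])
    (by rw [hF.prod, polar_sing hp, zero_mul]) (by rw [hF.prod, polar_comm QU w p, hpw, zero_mul])
    (by rw [hF.prod, hcf, mul_one]; exact hww)
  refine hF.eo_le_of_radU hO hp0 hp (skP_skew QW c f) (fun e' => hc0 ?_) (hF.radU_of_pl hp h3)
  have := LinearMap.congr_fun e' c
  rwa [skP_apply, polar_comm QW f c, hcf, polar_sing hc, one_smul, zero_smul, sub_zero, LinearMap.zero_apply] at this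

end Frame

end Cfsg.Agent.ClassicalMax.OTensor
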