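import Cfsg.Agent.ClassicalMax.OTensor.Basic

/-!
An element supported on `e ⊗ W`, for a singular vector `e` of the first factor, gives every Siegel transformation.
-/

set_option autoImplicit false
set_option linter.unusedSectionVars false
set_option linter.style.haveILetI false

namespace Cfsg.Agent.ClassicalMax.OTensor

open Module QuadraticMap Cfsg.Agent.Classical Cfsg.Agent.Classical.Quad Cfsg.Agent.ClassicalMax
open Cfsg.Agent.ClassicalMax.RootPlanes (Pl tS mem_tS Full full_of_tS eo_le)

variable {F U W V : Type*} [Field F] [Finite F] [AddCommGroup U] [Module F U] [FiniteDimensional F U]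
  [AddCommGroup W] [Module F W] [FiniteDimensional F W] [AddCommGroup V] [Module F V] [FiniteDimensional F V]
  {Q : QuadraticForm F V} {QU : QuadraticForm F U} {QW : QuadraticForm F W} {pt : U →ₗ[F] W →ₗ[F] V}
  {H : Subgroup (oG Q)}

/-- the skew operator of two vectors -/
noncomputable def skP {X : Type*} [AddCommGroup X] [Module F X] (R : QuadraticForm F X) (c d : X) : X →ₗ[F] X :=
  (polarBilin R d).smulRight c - (polarBilin R c).smulRight d

theorem skP_apply {X : Type*} [AddCommGroup X] [Module F X] (R : QuadraticForm F X) (c d x : X) :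
    skP R c d x = polar R d x • c - polar R c x • d := rfl

theorem skP_skew {X : Type*} [AddCommGroup X] [Module F X] (R : QuadraticForm F X) (c d x y : X) :
    polar R (skP R c d x) y = -polar R x (skP R c d y) := by
  simp only [skP_apply, polar_sub_left, polar_sub_right, polar_smul_left, polar_smul_right, smul_eq_mul,
    polar_comm R x c, polar_comm R x d]
  ring

theorem sO_neg_comp {X : Type*} [AddCommGroup X] [Module F X] {R : QuadraticForm F X} {p v : X} (hp : R p = 0)
    (hv : polar R p v = 0) (x : X) : (sO hp hv).1 ((sO hp (polar_perp_neg hv)).1 x) = x := by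
  rw [← sO_inv hp hv, oG_apply_inv]

omit [Finite F] [FiniteDimensional F V] in
theorem tS_conj {f : V} {hf : Q f = 0} {g : oG Q} (hg : g ∈ H) (hgf : g.1 f = f) {y : V} (hy : y ∈ tS H hf) :
    g.1 y ∈ tS H hf :=
  ⟨by rw [← hgf, polar_oG, hy.1], fun a h => by
    have h0 : polar Q f (a • y) = 0 := polar_perp_smul hy.1 a
    have h1 := mul_mem (mul_mem hg (hy.2 a h0)) (inv_mem hg)
    rw [conj_sO] at h1
    convert h1 using 2 <;> simp [hgf]⟩

omit [Finite F] [FiniteDimensional F V] in
theorem pl_of_tS {f y : V} {hf : Q f = 0} (hy : y ∈ tS H hf) (hq : Q y = 0) : Pl H f y :=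
  ⟨hf, hq, hy.1, fun l _ h => hy.2 l h⟩

namespace Frame

variable (hF : Frame Q QU QW pt)
include hF

/-- the group has the element `z ↦ z + e ⊗ S (π z)` -/
def RadU (H : Subgroup (oG Q)) (e : U) (S : W →ₗ[F] W) : Prop :=
  ∃ h ∈ H, ∀ z, h.1 z = z + pt e (S (hF.pU e z))

variable {e : U}

theorem radU_add (he : QU e = 0) {S S' : W →ₗ[F] W} (h : hF.RadU H e S) (h' : hF.RadU H e S') :
    hF.RadU H e (S + S') := by
  obtain ⟨g, hg, hz⟩ := h
  obtain ⟨g', hg', hz'⟩ := h'
  refine ⟨g * g', mul_mem hg hg', fun z => ?_⟩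
  rw [oG_mul_apply, hz, hz', map_add (hF.pU e), hF.pU_pt, polar_sing he, zero_smul, add_zero, LinearMap.add_apply,
    map_add (pt e), add_assoc, add_comm (pt e (S' _))]

theorem radU_neg (he : QU e = 0) {S : W →ₗ[F] W} (h : hF.RadU H e S) : hF.RadU H e (-S) := by
  obtain ⟨g, hg, hz⟩ := h
  refine ⟨g⁻¹, inv_mem hg, fun z => g.1.injective ?_⟩
  rw [oG_apply_inv, hz, map_add (hF.pU e), hF.pU_pt, polar_sing he, zero_smul, add_zero, LinearMap.neg_apply,
    map_neg (pt e), neg_add_cancel_right]

theorem radU_sub (he : QU e = 0) {S S' : W →ₗ[F] W} (h : hF.RadU H e S) (h' : hF.RadU H e S') :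
    hF.RadU H e (S - S') := sub_eq_add_neg S S' ▸ hF.radU_add he h (hF.radU_neg he h')

theorem radU_conj (hO : Over pt H) {S : W →ₗ[F] W} (h : hF.RadU H e S) {p v : W} (hp : QW p = 0)
    (hv : polar QW p v = 0) :
    hF.RadU H e ((sO hp hv).1.toLinearMap ∘ₗ S ∘ₗ (sO hp (polar_perp_neg hv)).1.toLinearMap) := by
  obtain ⟨g, hg, hz⟩ := h
  have hk := hO.sW_mem hF hp hv
  have hk' := hO.sW_mem hF hp (polar_perp_neg hv)
  refine ⟨hF.lp (1, sO hp hv) * g * hF.lp (1, sO hp (polar_perp_neg hv)), mul_mem (mul_mem hk hg) hk', fun z => ?_⟩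
  have e1 : hF.pU e ((hF.lp (1, sO hp (polar_perp_neg hv))).1 z) = (sO hp (polar_perp_neg hv)).1 (hF.pU e z) := by
    simpa using hF.pU_lp 1 (sO hp (polar_perp_neg hv)) e z
  have e2 : (hF.lp (1, sO hp hv)).1 ((hF.lp (1, sO hp (polar_perp_neg hv))).1 z) = z := by
    rw [← oG_mul_apply, ← map_mul, Prod.mk_mul_mk, one_mul, ← sO_inv hp hv, mul_inv_cancel, ← Prod.one_eq_mk, map_one,
      oG_one_apply]
  rw [oG_mul_apply, oG_mul_apply, hz, e1, map_add, e2, hF.lp_pt]
  rfl

theorem radU_of_pl (he : QU e = 0) {c d : W} (h : Pl H (pt e c) (pt e d)) : hF.RadU H e (skP QW c d) := by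
  have hu : Q (pt e c) = 0 := hF.pure_sing he c
  have hh : polar Q (pt e c) ((1 : F) • pt e d) = 0 := by
    rw [one_smul, hF.prod, polar_sing he, zero_mul]
  refine ⟨_, h.2.2.2 1 hu hh, fun z => ?_⟩
  rw [sO_apply, Quad.map_smul', hF.pure_sing he d, one_smul, skP_apply,
    polar_comm Q z (pt e d), polar_comm Q z (pt e c), ← hF.polar_pU, ← hF.polar_pU, polar_comm QW _ c,
    polar_comm QW _ d]
  simp only [map_sub, map_smul]
  module

theorem pl_of_radU (he : QU e = 0) {c d : W} (h : ∀ l : F, hF.RadU H e (l • skP QW c d)) :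
    Pl H (pt e c) (pt e d) := by
  refine ⟨hF.pure_sing he c, hF.pure_sing he d, by rw [hF.prod, polar_sing he, zero_mul], fun l hu hh => ?_⟩
  obtain ⟨g, hg, hz⟩ := h l
  have : sO hu hh = g := ext_oG fun z => by
    rw [hz, sO_apply, LinearMap.smul_apply, skP_apply, Quad.map_smul',
      hF.pure_sing he d, polar_smul_right, polar_comm Q z (pt e d), polar_comm Q z (pt e c), ← hF.polar_pU,
      ← hF.polar_pU, polar_comm QW _ c, polar_comm QW _ d, smul_eq_mul]
    simp only [map_sub, map_smul]
    module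
  exact this ▸ hg

/-- from one skew parameter the root group of one singular plane -/
theorem exists_line (hO : Over pt H) (he : QU e = 0) {S : W →ₗ[F] W}
    (hS : ∀ x y, polar QW (S x) y = -polar QW x (S y)) (h0 : S ≠ 0) (h : hF.RadU H e S) :
    ∃ p v, p ≠ 0 ∧ QW p = 0 ∧ QW v = 0 ∧ polar QW p v = 0 ∧ v ∉ F ∙ p ∧ Pl H (pt e p) (pt e v) := by
  have h2 := hF.two
  have hn := hF.dimW
  obtain ⟨p, hp, hSp⟩ := exists_moved h2 hF.ndW (by omega) hS h0
  have hp0 : p ≠ 0 := fun e' => hSp (by rw [e', map_zero]; exact Submodule.zero_mem _)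
  obtain ⟨v, hv, hpv, hSv⟩ : ∃ v, QW v = 0 ∧ polar QW p v = 0 ∧ polar QW (S p) v ≠ 0 := by
    by_contra! hc
    exact hSp (mem_line_of_sing hF.ndW hn hp0 hp hc)
  have hpS : polar QW p (S p) = 0 := by
    have := hS p p
    rw [polar_comm] at this
    exact (mul_eq_zero.1 (show (2 : F) * polar QW p (S p) = 0 by linear_combination this)).resolve_left h2
  refine ⟨p, v, hp0, hp, hv, hpv, fun hm => hSv ?_, ?_⟩
  · obtain ⟨k, rfl⟩ := Submodule.mem_span_singleton.1 hm
    rw [polar_smul_right, polar_comm, hpS, smul_zero]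
  set β := polar QW v (S p) with hβd
  have hβ : β ≠ 0 := by rwa [hβd, polar_comm]
  set N : Module.End F W := skP QW p v with hNd
  have hpN : ∀ x, polar QW p (N x) = 0 := fun x => by
    rw [hNd, skP_apply, polar_sub_right, polar_smul_right, polar_smul_right, polar_sing hp, hpv, smul_zero, smul_zero,
      sub_zero]
  have hvN : ∀ x, polar QW v (N x) = 0 := fun x => by
    rw [hNd, skP_apply, polar_sub_right, polar_smul_right, polar_smul_right, polar_comm QW v p, hpv, polar_sing hv,
      smul_zero, smul_zero, sub_zero]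
  have hN2 : N * N = 0 := LinearMap.ext fun x => by
    rw [Module.End.mul_apply]
    show skP QW p v (N x) = 0
    rw [skP_apply, hpN, hvN, zero_smul, zero_smul, sub_zero]
  have hNSN : N * S * N = β • N := LinearMap.ext fun x => by
    rw [Module.End.mul_apply, Module.End.mul_apply, LinearMap.smul_apply, hNd]
    have e1 : polar QW p (S v) = -β := by rw [hβd, polar_comm, hS v p]
    have e2 : polar QW v (S v) = 0 := by
      have := hS v v
      rw [polar_comm] at this
      exact (mul_eq_zero.1 (show (2 : F) * polar QW v (S v) = 0 by linear_combination this)).resolve_left h2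
    simp only [skP_apply, map_sub, map_smul, polar_sub_right, polar_smul_right, smul_eq_mul, hpS, e1, e2, ← hβd]
    module
  have hcoe : ∀ (t : F) (h' : polar QW p (t • v) = 0), (sO hp h').1.toLinearMap = 1 + t • N := fun t h' =>
    LinearMap.ext fun x => by
      rw [LinearEquiv.coe_coe, sO_apply, LinearMap.add_apply, Module.End.one_apply, LinearMap.smul_apply, hNd,
        skP_apply, map_smul' (Q := QW), hv, polar_smul_right, polar_comm QW x v, polar_comm QW x p, smul_eq_mul]
      module
  have hstep : ∀ (t : F) (R : Module.End F W), hF.RadU H e R →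
      hF.RadU H e ((2 * t) • (N * R - R * N)) := fun t R hR => by
    have hc := hF.radU_sub he (hF.radU_conj hO hR hp (polar_perp_smul hpv t))
      (hF.radU_conj hO hR hp (polar_perp_smul hpv (-t)))
    convert hc using 1
    have e1 : (sO hp (polar_perp_neg (polar_perp_smul hpv t))).1.toLinearMap = 1 + (-t) • N := by
      rw [← hcoe (-t) (polar_perp_smul hpv _)]
      exact congrArg (fun k : oG QW => k.1.toLinearMap) (sO_congr hp _ _ (neg_smul t v).symm)
    have e2 : (sO hp (polar_perp_neg (polar_perp_smul hpv (-t)))).1.toLinearMap = 1 + t • N := by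
      rw [← hcoe t (polar_perp_smul hpv _)]
      exact congrArg (fun k : oG QW => k.1.toLinearMap) (sO_congr hp _ _ (by rw [neg_smul, neg_neg]))
    rw [hcoe, hcoe, e1, e2]
    show (2 * t) • (N * R - R * N) = (1 + t • N) * (R * (1 + (-t) • N)) - (1 + (-t) • N) * (R * (1 + t • N))
    simp only [mul_add, add_mul, mul_one, one_mul, neg_smul, neg_mul, mul_neg, smul_mul_assoc, mul_smul_comm,
      smul_smul]
    module
  have hN : ∀ t : F, hF.RadU H e (t ^ 2 • N) := fun t => by
    have h8 : (-8 : F) * β ≠ 0 := by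
      refine mul_ne_zero (neg_ne_zero.2 ?_) hβ
      rw [show (8 : F) = 2 * 2 * 2 by norm_num]
      exact mul_ne_zero (mul_ne_zero h2 h2) h2
    obtain ⟨x, y, hxy⟩ := two_squares h2 (t ^ 2 * ((-8 : F) * β)⁻¹)
    have hz : ∀ r : F, hF.RadU H e ((r ^ 2 * (-8 * β)) • N) := fun r => by
      have := hstep r _ (hstep r S h)
      convert this using 1
      have e1 : N * (N * S) = 0 := by rw [← mul_assoc, hN2, zero_mul]
      have e2 : S * N * N = 0 := by rw [mul_assoc, hN2, mul_zero]
      simp only [mul_sub, sub_mul, mul_smul_comm, smul_mul_assoc, smul_sub, e1, e2, ← mul_assoc] at *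
      simp only [hNSN, hN2, zero_mul, smul_zero, zero_sub, sub_zero, smul_smul]
      module
    have := hF.radU_add he (hz x) (hz y)
    rwa [← add_smul, ← add_mul, ← hxy, inv_mul_cancel_right₀ h8] at this
  refine hF.pl_of_radU he fun l => ?_
  obtain ⟨x, y, rfl⟩ := two_squares h2 l
  rw [add_smul]
  exact hF.radU_add he (hN x) (hN y)

/-- one singular plane gives all -/
theorem lines_of_line (hO : Over pt H) (he : QU e = 0) {p v : W} (hp0 : p ≠ 0) (hp : QW p = 0) (hv : QW v = 0)
    (hpv : polar QW p v = 0) (hvp : v ∉ F ∙ p) (h : Pl H (pt e p) (pt e v)) {c d : W} (hc : QW c = 0) (hd : QW d = 0)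
    (hcd : polar QW c d = 0) : Pl H (pt e c) (pt e d) := by
  have hn := hF.dimW
  -- the orthogonal of `p`
  have good : ∀ p v : W, p ≠ 0 → QW p = 0 → QW v = 0 → polar QW p v = 0 → v ∉ F ∙ p → Pl H (pt e p) (pt e v) →
      ∀ w, QW w = 0 → polar QW p w = 0 → Pl H (pt e p) (pt e w) := by
    intro p v hp0 hp hv hpv hvp h w hw hpw
    set S := (tS H (hF.pure_sing he p)).comap (pt e) with hSd
    suffices w ∈ S from pl_of_tS (this : pt e w ∈ tS H (hF.pure_sing he p)) (hF.pure_sing he w)
    have hvS : v ∈ S := mem_tS h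
    obtain ⟨r, hr, hpr, hvr⟩ : ∃ r, QW r = 0 ∧ polar QW p r = 0 ∧ polar QW v r = 1 := by
      by_contra! hc
      refine hvp (mem_line_of_sing hF.ndW hn hp0 hp fun r hr hpr => ?_)
      by_contra h0
      exact hc ((polar QW v r)⁻¹ • r) (by rw [map_smul', hr, mul_zero]) (polar_perp_smul hpr _)
        (by rw [polar_smul_right, smul_eq_mul, inv_mul_cancel₀ h0])
    have hmove : ∀ y, polar QW p y = 0 → polar QW r y = 0 → polar QW v y = 0 → y + QW y • r ∈ S := by
      intro y hpy hry hvy
      have hk : (hF.lp (1, sO hr hry)).1 (pt e p) = pt e p := by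
        rw [hF.lp_pt, oG_one_apply, sO_apply, hpy, hpr]
        simp
      have h1 := tS_conj (hf := hF.pure_sing he p) (hO.sW_mem hF hr hry) hk (hvS : pt e v ∈ _)
      rw [hF.lp_pt, oG_one_apply] at h1
      have h2 := S.sub_mem hvS (h1 : (sO hr hry).1 v ∈ S)
      rw [sO_apply, hvy, hvr, show v - (v + (0 : F) • r + -(1 : F) • y + -(QW y * 1) • r) = y + QW y • r by module] at h2
      exact h2
    obtain ⟨u, hpu, hru, hvu, hQu⟩ : ∃ u, polar QW p u = 0 ∧ polar QW r u = 0 ∧ polar QW v u = 0 ∧ QW u ≠ 0 := by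
      have hd := finrank_perpPair hv hr hvr
      have hpP : p ∈ perpPair QW v r := mem_perpPair.2 ⟨by rw [polar_comm, hpv], by rw [polar_comm, hpr]⟩
      have hnd := nondeg_restrictPair hF.ndW hv hr hvr
      obtain ⟨g, hg, hpg⟩ := exists_hyp_pair hnd (p := ⟨p, hpP⟩) (fun e' => hp0 (congrArg Subtype.val e')) hp
      obtain ⟨u, hu1, hu2, hu3⟩ := exists_aniso_perp hnd (by omega) hp hg hpg
      exact ⟨u, hu1, (mem_perpPair.1 u.2).2, (mem_perpPair.1 u.2).1, hu3⟩
    have hrS : r ∈ S := by
      have h3 := S.add_mem (hmove u hpu hru hvu) (hmove (-u) (polar_perp_neg hpu) (polar_perp_neg hru)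
        (polar_perp_neg hvu))
      rw [QuadraticMap.map_neg, show u + QW u • r + (-u + QW u • r) = (2 * QW u) • r by module] at h3
      exact (Submodule.smul_mem_iff _ (mul_ne_zero hF.two hQu)).1 h3
    set y := w + (-polar QW v w) • r + (-polar QW r w) • v with hyd
    have hy1 : polar QW p y = 0 := polar_perp_add (polar_perp_add hpw (polar_perp_smul hpr _)) (polar_perp_smul hpv _)
    have hy2 : polar QW r y = 0 := by
      rw [hyd, polar_add_right, polar_add_right, polar_smul_right, polar_smul_right, polar_sing hr,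
        polar_comm QW r v, hvr, smul_eq_mul, smul_eq_mul]
      ring
    have hy3 : polar QW v y = 0 := by
      rw [hyd, polar_add_right, polar_add_right, polar_smul_right, polar_smul_right, polar_sing hv, hvr,
        smul_eq_mul, smul_eq_mul]
      ring
    have h4 := S.add_mem (S.add_mem (S.sub_mem (hmove y hy1 hy2 hy3) (S.smul_mem (QW y) hrS))
      (S.smul_mem (polar QW v w) hrS)) (S.smul_mem (polar QW r w) hvS)
    rwa [hyd, show ∀ a : F, w + (-polar QW v w) • r + (-polar QW r w) • v + a • r - a • r + polar QW v w • r +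
      polar QW r w • v = w from fun a => by module] at h4
  have step : ∀ p p' : W, QW p = 0 → (∀ w, QW w = 0 → polar QW p w = 0 → Pl H (pt e p) (pt e w)) → QW p' = 0 →
      polar QW p p' = 0 → p' ≠ 0 → p ∉ F ∙ p' → ∀ w, QW w = 0 → polar QW p' w = 0 → Pl H (pt e p') (pt e w) :=
    fun p p' hp hg hp' hpp hp'0 hn' => good p' p hp'0 hp' hp (by rw [polar_comm, hpp]) hn' (hg p' hp' hpp).symm
  have hgp := good p v hp0 hp hv hpv hvp h
  rcases eq_or_ne c 0 with rfl | hc0
  · have h0 : Pl H (pt e d) (pt e d) := Pl.refl (hF.pure_sing he d)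
    simpa using h0.smul_left 0
  refine (?_ : ∀ w, QW w = 0 → polar QW c w = 0 → Pl H (pt e c) (pt e w)) d hd hcd
  by_cases hcp : c ∈ F ∙ p
  · obtain ⟨k, rfl⟩ := Submodule.mem_span_singleton.1 hcp
    have hk : k ≠ 0 := fun h0 => hc0 (by rw [h0, zero_smul])
    intro w hw hpw
    rw [map_smul]
    rw [polar_smul_left, smul_eq_mul] at hpw
    exact (hgp w hw ((mul_eq_zero.1 hpw).resolve_left hk)).smul_left k
  have hpc : p ∉ F ∙ c := fun hm => by
    obtain ⟨k, hk⟩ := Submodule.mem_span_singleton.1 hm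
    have hk0 : k ≠ 0 := fun h0 => hp0 (by rw [← hk, h0, zero_smul])
    exact hcp (Submodule.mem_span_singleton.2 ⟨k⁻¹, by rw [← hk, inv_smul_smul₀ hk0]⟩)
  by_cases h1 : polar QW p c = 0
  · exact step p c hp hgp hc h1 hc0 hpc
  have hf : QW ((polar QW p c)⁻¹ • c) = 0 := by rw [map_smul', hc, mul_zero]
  have hpf : polar QW p ((polar QW p c)⁻¹ • c) = 1 := by rw [polar_smul_right, smul_eq_mul, inv_mul_cancel₀ h1]
  have hd' := finrank_perpPair hp hf hpf
  obtain ⟨m, hm0, hm⟩ := exists_singular (restrictPair QW p ((polar QW p c)⁻¹ • c)) (by omega)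
  have hm1 := (mem_perpPair.1 m.2).1
  have hm2 : polar QW c (m : W) = 0 := by
    have := (mem_perpPair.1 m.2).2
    rw [polar_smul_left, smul_eq_mul] at this
    exact (mul_eq_zero.1 this).resolve_left (inv_ne_zero h1)
  have hmW : (m : W) ≠ 0 := fun e' => hm0 (Subtype.ext e')
  have hnot : ∀ a b : W, polar QW p c ≠ 0 → (a = p ∧ b = c) ∨ (a = c ∧ b = p) → polar QW (m : W) b = 0 →
      a ∉ F ∙ (m : W) := fun a b hne hab hmb hmem => by
    obtain ⟨k, hk⟩ := Submodule.mem_span_singleton.1 hmem
    have : polar QW a b = 0 := by rw [← hk, polar_smul_left, hmb, smul_zero]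
    rcases hab with ⟨rfl, rfl⟩ | ⟨rfl, rfl⟩
    · exact hne this
    · exact hne (by rw [polar_comm, this])
  have hgm := step p m hp hgp hm hm1 hmW (hnot p c h1 (Or.inl ⟨rfl, rfl⟩) (by rw [polar_comm, hm2]))
  refine step m c hm hgm hc (by rw [polar_comm, hm2]) hc0 fun hmem => ?_
  obtain ⟨k, hk⟩ := Submodule.mem_span_singleton.1 hmem
  have : k * polar QW p c = 0 := by rw [← hm1, ← hk, polar_smul_right, smul_eq_mul]
  exact hmW (by rw [← hk, (mul_eq_zero.1 this).resolve_right h1, zero_smul])

/-- all singular planes at all singular vectors of the first factor give every Siegel transformation -/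
theorem eo_le_of_lines (hO : Over pt H)
    (h : ∀ e, QU e = 0 → ∀ c d, QW c = 0 → QW d = 0 → polar QW c d = 0 → Pl H (pt e c) (pt e d)) : eo Q ≤ H := by
  have h2 := hF.two
  have hU := hF.dimU
  have hW := hF.dimW
  obtain ⟨e₀, he0, he⟩ := exists_singular QU hU
  obtain ⟨c₀, hc0, hc⟩ := exists_singular QW (by omega)
  -- the first factor at a singular centre
  have hrow : ∀ e c, e ≠ 0 → QU e = 0 → c ≠ 0 → ∀ (hc : QW c = 0) (g : U), pt g c ∈ tS H (hF.pure_sing' e hc) := by
    intro e c he0 he hc0 hc g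
    obtain ⟨r, hr, hcr, hrn⟩ := exists_second hF.ndW hW hc0 hc
    obtain ⟨r', hr', hcr', hrr'⟩ : ∃ r', QW r' = 0 ∧ polar QW c r' = 0 ∧ polar QW r r' ≠ 0 := by
      by_contra! hcc
      exact hrn (mem_line_of_sing hF.ndW hW hc0 hc hcc)
    have := top_of_partners h2 hF.ndU hU he0 he ((tS H (hF.pure_sing' e hc)).comap (pt.flip c)) fun g hg heg => by
      rw [Submodule.mem_comap, LinearMap.flip_apply]
      refine mem_tS ((h e he c r hc hr hcr).rule (h g hg r' c hr' hc (by rw [polar_comm, hcr'])) ?_ ?_ ?_ ?_)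
      · rw [hF.prod, hcr', mul_zero]
      · rw [hF.prod, polar_sing hc, mul_zero]
      · rw [hF.prod, polar_comm QW r c, hcr, mul_zero]
      · rw [hF.prod, heg, one_mul]; exact hrr'
    exact (this ▸ Submodule.mem_top : g ∈ (tS H (hF.pure_sing' e hc)).comap (pt.flip c))
  -- the orthogonal of a vector of the first factor
  have hmix : ∀ e c, e ≠ 0 → QU e = 0 → c ≠ 0 → ∀ (hc : QW c = 0) (y : U) (x : W), polar QU e y = 0 →
      pt y x ∈ tS H (hF.pure_sing' e hc) := by
    intro e c he0 he hc0 hc y x hey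
    set T := tS H (hF.pure_sing' e hc)
    have han : ∀ y, polar QU e y = 0 → QU y ≠ 0 → pt y x ∈ T := by
      intro y hey hy
      obtain ⟨f₁, hf₁, hef₁⟩ := exists_perp hF.ndU (S := F ∙ y) (x := e) (fun hm => by
        obtain ⟨k, rfl⟩ := Submodule.mem_span_singleton.1 hm
        rw [map_smul', mul_eq_zero, mul_self_eq_zero] at he
        exact he0 (by rw [he.resolve_right hy, zero_smul]))
      set g := f₁ + (-QU f₁) • e
      have hg : QU g = 0 := by rw [map_add_smul, he, polar_comm QU f₁ e, hef₁]; ring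
      have heg : polar QU e g = 1 := by
        rw [polar_add_right, polar_smul_right, polar_sing he, hef₁, smul_zero, add_zero]
      have hyg : polar QU g y = 0 := by
        rw [polar_add_left, polar_smul_left, hey, smul_zero, add_zero, polar_comm,
          hf₁ y (Submodule.mem_span_singleton_self y)]
      have := top_of_partners h2 hF.ndW (by omega) hc0 hc (T.comap (pt y)) fun d' hd' hcd' => by
        have hd0 : d' ≠ 0 := fun e' => by rw [e'] at hcd'; simp [polar] at hcd'
        refine mem_tS ((pl_of_tS (hrow e c he0 he hc0 hc g) (hF.pure_sing' g hc)).rule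
          (pl_of_tS (hrow e d' he0 he hd0 hd' y) (hF.pure_sing' y hd')) ?_ ?_ ?_ ?_)
        · rw [hF.prod, polar_sing he, zero_mul]
        · rw [hF.prod, hey, zero_mul]
        · rw [hF.prod, hyg, zero_mul]
        · rw [hF.prod, polar_comm QU g e, heg, hcd', one_mul]; exact one_ne_zero
      exact (this ▸ Submodule.mem_top : x ∈ T.comap (pt y))
    by_cases hy : QU y = 0
    swap
    · exact han y hey hy
    obtain ⟨f₂, hf₂, hef₂⟩ := exists_hyp_pair hF.ndU he0 he
    obtain ⟨u, heu, -, hu⟩ := exists_aniso_perp hF.ndU hU he hf₂ hef₂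
    by_cases h1 : QU (y + u) = 0
    · have h3 : QU (y + (-1 : F) • u) ≠ 0 := fun h4 => by
        rw [map_add_smul, hy] at h4
        rw [map_add', hy] at h1
        exact mul_ne_zero h2 hu (by linear_combination h1 + h4)
      have := T.add_mem (han _ (polar_perp_add hey (polar_perp_smul heu _)) h3) (han u heu hu)
      rwa [map_add, LinearMap.add_apply, map_smul, LinearMap.smul_apply, neg_one_smul, neg_add_cancel_right] at this
    · have := T.sub_mem (han _ (polar_perp_add hey heu) h1) (han u heu hu)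
      rwa [map_add, LinearMap.add_apply, add_sub_cancel_right] at this
  have hfull : ∀ e c, e ≠ 0 → QU e = 0 → c ≠ 0 → QW c = 0 → Full H (pt e c) := by
    intro e c he0 he hc0 hc
    set T := tS H (hF.pure_sing' e hc)
    obtain ⟨g, hg, heg⟩ := exists_hyp_pair hF.ndU he0 he
    obtain ⟨f, hf, hcf⟩ := exists_hyp_pair hF.ndW hc0 hc
    have hgd : ∀ x, polar QW c x = 0 → pt g x ∈ T := fun x hx =>
      perp_le_of_sing hF.ndW hW hc0 hc (T.comap (pt g)) (fun d hd hcd => by
        obtain ⟨u, heu, hgu, hu⟩ := exists_aniso_perp hF.ndU hU he hg heg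
        have hb : pt u f ∈ T := hmix e c he0 he hc0 hc u f heu
        rcases eq_or_ne d 0 with rfl | hd0
        · exact Submodule.zero_mem _
        have hg0 : g ≠ 0 := fun e' => by rw [e'] at heg; simp [polar] at heg
        have h4 := pl_of_tS (hmix g d hg0 hg hd0 hd u c hgu) (hF.pure_sing' u hc)
        refine mem_tS ((pl_of_tS hb (hF.pure_sing' u hf)).rule h4.symm ?_ ?_ ?_ ?_)
        · rw [hF.prod, heu, zero_mul]
        · rw [hF.prod, hcd, mul_zero]
        · rw [hF.prod, polar_comm QU u g, hgu, zero_mul]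
        · rw [hF.prod, polar_self', polar_comm QW f c, hcf, mul_one]; exact mul_ne_zero h2 hu) hx
    refine full_of_tS (hF.pure_sing' e hc) fun z hz => ?_
    have key : T.mkQ ∘ₗ (LinearMap.id - (polarBilin Q (pt e c)).smulRight (pt g f)) = 0 := hF.ext_pure fun u x => by
      show T.mkQ (pt u x - polar Q (pt e c) (pt u x) • pt g f) = 0
      rw [Submodule.mkQ_apply, Submodule.Quotient.mk_eq_zero, hF.prod]
      have h5 := T.add_mem (hmix e c he0 he hc0 hc (u - polar QU e u • g) x
          (by rw [polar_sub_right, polar_smul_right, heg, smul_eq_mul, mul_one, sub_self]))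
        (T.smul_mem (polar QU e u) (hgd (x - polar QW c x • f)
          (by rw [polar_sub_right, polar_smul_right, hcf, smul_eq_mul, mul_one, sub_self])))
      convert h5 using 1
      simp only [map_sub, map_smul, LinearMap.sub_apply, LinearMap.smul_apply]
      module
    have h6 := LinearMap.congr_fun key z
    simp only [LinearMap.comp_apply, LinearMap.sub_apply, LinearMap.id_apply, LinearMap.smulRight_apply,
      LinearMap.zero_apply, Submodule.mkQ_apply, Submodule.Quotient.mk_eq_zero] at h6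
    rwa [show polarBilin Q (pt e c) z = 0 from hz, zero_smul, sub_zero] at h6
  obtain ⟨g, hg, heg⟩ := exists_hyp_pair hF.ndU he0 he
  obtain ⟨f, hf, hcf⟩ := exists_hyp_pair hF.ndW hc0 hc
  refine eo_le hF.nd ?_ (hfull e₀ c₀ he0 he hc0 hc) (hfull g f ?_ hg ?_ hf)
    (by rw [hF.prod, heg, hcf, one_mul]; exact one_ne_zero)
  · have hinj : Function.Injective (pt e₀) := fun x y hxy => hF.eqW fun w => by
      have := congrArg (fun z => polar Q (pt g w) z) hxy
      simp only [hF.prod, polar_comm QU g e₀, heg, one_mul] at this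
      rw [polar_comm QW x w, this, polar_comm]
    have := LinearMap.finrank_le_finrank_of_injective hinj
    omega
  · exact fun e' => by rw [e'] at heg; simp [polar] at heg
  · exact fun e' => by rw [e'] at hcf; simp [polar] at hcf

/-- a non-zero element supported on `e ⊗ W` gives every Siegel transformation -/
theorem eo_le_of_radU (hO : Over pt H) (he0 : e ≠ 0) (he : QU e = 0) {S : W →ₗ[F] W}
    (hS : ∀ x y, polar QW (S x) y = -polar QW x (S y)) (h0 : S ≠ 0) (h : hF.RadU H e S) : eo Q ≤ H := by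
  obtain ⟨p, v, hp0, hp, hv, hpv, hvp, hpl⟩ := hF.exists_line hO he hS h0 h
  refine hF.eo_le_of_lines hO fun e' he' c d hc hd hcd => ?_
  rcases eq_or_ne e' 0 with rfl | he'0
  · have := (Pl.refl (H := H) (Q := Q) (u := 0) (by simp))
    simpa using this
  obtain ⟨g, hg, t, ht, hge⟩ := exists_eo_point hF.ndU hF.dimU he0 he he'0 he'
  have hgc : g ∈ commutator (oG QU) := by
    rwa [← eo_eq_commutator hF.ndU hF.dimU (Or.inl fun h2' => hF.two (by
      letI := Fintype.ofFinite F
      have h := Nat.cast_card_eq_zero F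
      rw [← Nat.card_eq_fintype_card, h2'] at h
      exact_mod_cast h))]
  have h1 := ((hF.lines_of_line hO he hp0 hp hv hpv hvp hpl hc hd hcd).conj (hO.lp_mem hF hgc (one_mem _))).smul_left t⁻¹
    |>.smul_right t⁻¹
  rwa [hF.lp_pt, hF.lp_pt, hge, oG_one_apply, oG_one_apply, map_smul, LinearMap.smul_apply, LinearMap.smul_apply,
    inv_smul_smul₀ ht, inv_smul_smul₀ ht] at h1

end Frame

end Cfsg.Agent.ClassicalMax.OTensor
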