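import Cfsg.Agent.ClassicalMax.OTensor.Skew
import Cfsg.Agent.Classical.OrthChar

/-!
Sets of symmetric operators closed under addition, scaling and conjugation by Siegel transformations: a non-scalar
member gives the square of a singular vector.
-/

set_option autoImplicit false
set_option linter.unusedSectionVars false
set_option linter.style.haveILetI false

namespace Cfsg.Agent.ClassicalMax.OTensor

open Module QuadraticMap Cfsg.Agent.Classical Cfsg.Agent.Classical.Quad Cfsg.Agent.ClassicalMax

variable {F U : Type*} [Field F] [Finite F] [AddCommGroup U] [Module F U] [FiniteDimensional F U]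
  {R : QuadraticForm F U}

/-- the symmetric product of two vectors -/
noncomputable def symP (R : QuadraticForm F U) (p w : U) : U →ₗ[F] U :=
  (polarBilin R p).smulRight w + (polarBilin R w).smulRight p

theorem symP_apply (p w x : U) : symP R p w x = polar R p x • w + polar R w x • p := rfl

theorem symP_smul (p w : U) (a : F) : symP R p (a • w) = a • symP R p w := LinearMap.ext fun x => by
  rw [LinearMap.smul_apply, symP_apply, symP_apply, polar_smul_left, smul_eq_mul]
  module

theorem symP_add (p w w' : U) : symP R p (w + w') = symP R p w + symP R p w' := LinearMap.ext fun x => by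
  rw [LinearMap.add_apply, symP_apply, symP_apply, symP_apply, polar_add_left]
  module

theorem symP_conj (g : oG R) (p w x : U) : g.1 (symP R p w ((g⁻¹).1 x)) = symP R (g.1 p) (g.1 w) x := by
  rw [symP_apply, symP_apply, map_add, map_smul, map_smul, ← polar_oG g p, ← polar_oG g w, oG_apply_inv]

/-- an anisotropic vector orthogonal to a singular one and another one -/
theorem exists_aniso_two (hR : (polarBilin R).Nondegenerate) (hn : 4 ≤ finrank F U)
    (hell : finrank F U ≤ 4 → ∀ p y, R p = 0 → R y = 0 → polar R p y = 0 → p ≠ 0 → y ∈ F ∙ p) (a b : U) :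
    ∃ u, polar R a u = 0 ∧ polar R b u = 0 ∧ R u ≠ 0 := by
  by_contra! h
  set S := LinearMap.ker ((polarBilin R a).prod (polarBilin R b)) with hSd
  have hS : ∀ u ∈ S, R u = 0 := fun u hu => by
    simp only [hSd, LinearMap.mem_ker, LinearMap.prod_apply, Function.prod_apply, Prod.mk_eq_zero] at hu
    exact h u hu.1 hu.2
  have h1 := two_mul_finrank_le hR hS
  have h2 := LinearMap.finrank_range_add_finrank_ker ((polarBilin R a).prod (polarBilin R b))
  have h3 := Submodule.finrank_le (LinearMap.range ((polarBilin R a).prod (polarBilin R b)))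
  rw [finrank_prod, finrank_self, ← hSd] at *
  have h4 : finrank F S = 2 := by omega
  obtain ⟨p, hp, hp0⟩ := Submodule.exists_mem_ne_zero_of_ne_bot (p := S) fun e => by
    rw [e, finrank_bot] at h4; omega
  have hle : S ≤ F ∙ p := fun y hy => hell (by omega) p y (hS p hp) (hS y hy)
    (polar_eq_zero_of_singular hS hp hy) hp0
  have h5 := Submodule.finrank_mono hle
  rw [h4, finrank_span_singleton hp0] at h5
  omega

theorem exists_scale {K : Type*} [Field K] [Finite K] (hq : 5 ≤ Nat.card K) : ∃ l : K, l ≠ 0 ∧ l ≠ 1 ∧ l ≠ -1 := by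
  classical
  have := Fintype.ofFinite K
  have hc : ({0, 1, -1} : Finset K).card < Fintype.card K := by
    rw [← Nat.card_eq_fintype_card]
    exact lt_of_le_of_lt Finset.card_le_three (by omega)
  obtain ⟨l, -, hl⟩ := Finset.exists_mem_notMem_of_card_lt_card (t := (Finset.univ : Finset K))
    (lt_of_lt_of_eq hc Finset.card_univ.symm)
  simp at hl
  exact ⟨l, hl.1, hl.2.1, hl.2.2⟩

/-- in an odd space with vanishing diagonal on singular vectors a symmetric operator is scalar -/
theorem scalar_of_cone (h2 : (2 : F) ≠ 0) (hR : (polarBilin R).Nondegenerate) (hn : 3 ≤ finrank F U)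
    (hq : 5 ≤ Nat.card F) {B : U →ₗ[F] U} (hB : ∀ x y, polar R (B x) y = polar R x (B y))
    (h : ∀ p, R p = 0 → polar R (B p) p = 0) : ∃ κ : F, ∀ x, B x = κ • x := by
  have key : ∀ p, R p = 0 → B p ∈ F ∙ p := by
    intro p hp
    rcases eq_or_ne p 0 with rfl | hp0
    · simp
    obtain ⟨g, hg, hpg⟩ := exists_hyp_pair hR hp0 hp
    refine mem_line_of_perp hR fun y hpy => ?_
    set x := y + (-polar R g y) • p with hxd
    have hpx : polar R p x = 0 := polar_perp_add hpy (polar_perp_smul (polar_sing hp) _)
    have hgx : polar R g x = 0 := by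
      rw [hxd, polar_add_right, polar_smul_right, polar_comm R g p, hpg, smul_eq_mul]; ring
    have hf : ∀ t : F, 2 * t * polar R (B p) x + t ^ 2 * (polar R (B x) x - 2 * R x * polar R (B p) g) -
        2 * t ^ 3 * R x * polar R (B x) g = 0 := fun t => by
      have h1 := h (p + t • x + (-(t ^ 2) * R x) • g) (by
        rw [map_add_smul, map_add_smul, hp, hg, hpx, polar_add_left, polar_smul_left, hpg, polar_comm R x g, hgx,
          smul_eq_mul]
        ring)
      simp only [map_add, map_smul, polar_add_left, polar_add_right, polar_smul_left, polar_smul_right, smul_eq_mul,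
        hB x p, polar_comm R x (B p), hB g p, polar_comm R g (B p), hB g x, polar_comm R g (B x), h p hp, h g hg] at h1
      linear_combination h1
    obtain ⟨s, hs0, hs1, hs2⟩ := exists_scale hq
    have e1 : polar R (B p) x - R x * polar R (B x) g = 0 := by
      have : (2 * 2) * (polar R (B p) x - R x * polar R (B x) g) = 0 := by linear_combination hf 1 - hf (-1)
      exact (mul_eq_zero.1 this).resolve_left (mul_ne_zero h2 h2)
    have e2 : polar R (B p) x - s ^ 2 * R x * polar R (B x) g = 0 := by
      have : (2 * 2 * s) * (polar R (B p) x - s ^ 2 * R x * polar R (B x) g) = 0 := by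
        linear_combination hf s - hf (-s)
      exact (mul_eq_zero.1 this).resolve_left (mul_ne_zero (mul_ne_zero h2 h2) hs0)
    have e3 : (s - 1) * (s + 1) * polar R (B p) x = 0 := by linear_combination s ^ 2 * e1 - e2
    have e4 : polar R (B p) x = 0 := (mul_eq_zero.1 e3).resolve_left
      (mul_ne_zero (sub_ne_zero.2 hs1) fun e => hs2 (eq_neg_of_add_eq_zero_left e))
    rw [hxd, polar_add_right, polar_smul_right, h p hp, smul_zero, add_zero] at e4
    exact e4
  exact scalar_of_sing h2 hR hn B B hB key key

/-- the closure properties of the parameter set -/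
structure OpSet (R : QuadraticForm F U) (M : (U →ₗ[F] U) → Prop) : Prop where
  add : ∀ {A B}, M A → M B → M (A + B)
  neg : ∀ {A}, M A → M (-A)
  sq : ∀ {A} (t : F), M A → M (t ^ 2 • A)
  conj : ∀ {A} {p v : U} (hp : R p = 0) (hv : polar R p v = 0), M A →
    M ((sO hp hv).1.toLinearMap ∘ₗ A ∘ₗ (sO hp (polar_perp_neg hv)).1.toLinearMap)

theorem OpSet.smul {M : (U →ₗ[F] U) → Prop} (hM : OpSet R M) (h2 : (2 : F) ≠ 0) {A : U →ₗ[F] U} (h : M A) (c : F) :
    M (c • A) := by
  obtain ⟨x, y, rfl⟩ := two_squares h2 c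
  rw [add_smul]
  exact hM.add (hM.sq x h) (hM.sq y h)

theorem OpSet.sub {M : (U →ₗ[F] U) → Prop} (hM : OpSet R M) {A B : U →ₗ[F] U} (h : M A) (h' : M B) : M (A - B) :=
  sub_eq_add_neg A B ▸ hM.add h (hM.neg h')

variable {M : (U →ₗ[F] U) → Prop}

/-- the difference of a conjugate of a symmetric product with singular `p` -/
theorem OpSet.shear (hM : OpSet R M) {p w x : U} (hp : R p = 0) (hx : polar R p x = 0) {κ : F} {v : U}
    (hv : polar R p v = 0) (hvx : κ = 0 ∨ polar R v x = 0) (h : M (symP R p w + κ • symP R v v)) :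
    M (symP R p (polar R w x • p + (-polar R w p) • x + (-(R x * polar R w p)) • p)) := by
  have h1 := hM.sub (hM.conj hp hx h) h
  convert h1 using 1
  refine LinearMap.ext fun z => ?_
  rw [LinearMap.sub_apply, LinearMap.comp_apply, LinearMap.comp_apply, LinearEquiv.coe_coe, LinearEquiv.coe_coe,
    LinearMap.add_apply, LinearMap.add_apply, LinearMap.smul_apply, LinearMap.smul_apply, ← sO_inv hp hx, map_add,
    map_smul, symP_conj, symP_conj]
  have e1 : (sO hp hx).1 p = p := by rw [sO_apply, hx, polar_sing hp]; simp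
  have e2 : (sO hp hx).1 w = w + (polar R w x • p + (-polar R w p) • x + (-(R x * polar R w p)) • p) := by
    rw [sO_apply]; module
  generalize hD : (polar R w x • p + (-polar R w p) • x + (-(R x * polar R w p)) • p) = D at e2 ⊢
  rw [e1, e2, symP_add, LinearMap.add_apply]
  rcases hvx with rfl | hvx
  · simp
  · have e3 : (sO hp hx).1 v = v := by rw [sO_apply, hvx, polar_comm R v p, hv]; simp
    rw [e3]; abel

/-- a non-scalar member gives the square of a singular vector -/
theorem OpSet.exists_square (hM : OpSet R M) (h2 : (2 : F) ≠ 0) (hR : (polarBilin R).Nondegenerate)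
    (hn : 3 ≤ finrank F U) (h3 : finrank F U = 3 → 5 ≤ Nat.card F)
    (hell : finrank F U ≤ 4 → ∀ p y, R p = 0 → R y = 0 → polar R p y = 0 → p ≠ 0 → y ∈ F ∙ p)
    {B : U →ₗ[F] U} (hB : ∀ x y, polar R (B x) y = polar R x (B y)) (hns : ¬ ∃ κ : F, ∀ x, B x = κ • x) (h : M B) :
    ∃ p, p ≠ 0 ∧ R p = 0 ∧ M (symP R p p) := by
  have hdiff : ∀ p v : U, R p = 0 → polar R p v = 0 →
      M (symP R p ((-(2 * R v)) • B p + (-(2 * polar R (B p) v)) • v + (polar R (B v) v + R v * R v * polar R (B p) p) • p)
        + polar R (B p) p • symP R v v) := by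
    intro p v hp hv
    have h1 := hM.sub (hM.sub (hM.add (hM.conj hp hv h) (hM.conj hp (polar_perp_neg hv) h)) h) h
    convert h1 using 1
    rw [sO_congr hp (polar_perp_neg (polar_perp_neg hv)) hv (neg_neg v)]
    refine LinearMap.ext fun x => ?_
    simp only [LinearMap.sub_apply, LinearMap.add_apply, LinearMap.comp_apply, LinearMap.smul_apply,
      LinearEquiv.coe_coe, sO_apply, symP_apply, polar_sub_left, polar_add_left, polar_smul_left, polar_neg_right,
      polar_smul_right, QuadraticMap.map_neg, map_add, map_smul, map_neg, polar_comm R _ p, polar_comm R _ v, hv,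
      polar_sing hp, polar_self', smul_eq_mul]
    have f1 : ∀ x, polar R p (B x) = polar R (B p) x := fun x => (hB p x).symm
    have f2 : ∀ x, polar R v (B x) = polar R (B v) x := fun x => (hB v x).symm
    simp only [f1, f2]
    have f3 : polar R (B v) p = polar R (B p) v := by rw [hB, polar_comm]
    simp only [f3]
    module
  -- from a symmetric product with `p`
  have fin : ∀ p w v' : U, p ≠ 0 → R p = 0 → polar R p w = 0 → polar R p v' = 0 → polar R w v' ≠ 0 → M (symP R p w) →
      ∃ p, p ≠ 0 ∧ R p = 0 ∧ M (symP R p p) := by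
    intro p w v' hp0 hp hpw hpv' hwv hm
    have h1 := OpSet.shear hM hp hpv' (κ := (0 : F)) (v := (0 : U)) (w := w) (by simp [polar]) (Or.inl rfl) (by simpa using hm)
    have e : polar R w p = 0 := by rw [polar_comm, hpw]
    rw [e, neg_zero, zero_smul, mul_zero, neg_zero, zero_smul, add_zero, add_zero, symP_smul] at h1
    have h4 := hM.smul h2 h1 (polar R w v')⁻¹
    rw [inv_smul_smul₀ hwv] at h4
    exact ⟨p, hp0, hp, h4⟩
  rcases Nat.lt_or_ge (finrank F U) 4 with h4 | h4
  · -- three dimensions
    have hq := h3 (by omega)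
    obtain ⟨p, hp, hκ⟩ : ∃ p, R p = 0 ∧ polar R (B p) p ≠ 0 := by
      by_contra! hc
      exact hns (scalar_of_cone h2 hR hn hq hB hc)
    have hp0 : p ≠ 0 := fun e => hκ (by subst e; simp [polar])
    obtain ⟨g, hg, hpg⟩ := exists_hyp_pair hR hp0 hp
    obtain ⟨v, hpv, -, hv⟩ := exists_aniso_perp hR hn hp hg hpg
    obtain ⟨s, hs0, hs1, hs2⟩ := exists_scale hq
    have h5 := hM.sub (hdiff p (s • v) hp (polar_perp_smul hpv s)) (hM.sq s (hdiff p v hp hpv))
    refine ⟨p, hp0, hp, ?_⟩
    have hne : s ^ 2 * (s ^ 2 - 1) * R v ^ 2 * polar R (B p) p ≠ 0 := by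
      refine mul_ne_zero (mul_ne_zero (mul_ne_zero (pow_ne_zero _ hs0) fun e => ?_) (pow_ne_zero _ hv)) hκ
      rcases mul_eq_zero.1 (show (s - 1) * (s + 1) = 0 by linear_combination e) with e' | e'
      · exact hs1 (sub_eq_zero.1 e')
      · exact hs2 (eq_neg_of_add_eq_zero_left e')
    have h6 := hM.smul h2 h5 (s ^ 2 * (s ^ 2 - 1) * R v ^ 2 * polar R (B p) p)⁻¹
    convert h6 using 1
    have hs3 : s ^ 2 - 1 ≠ 0 := right_ne_zero_of_mul (left_ne_zero_of_mul (left_ne_zero_of_mul hne))
    have hv' : R v ≠ 0 := hv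
    refine LinearMap.ext fun x => ?_
    simp only [LinearMap.smul_apply, LinearMap.sub_apply, LinearMap.add_apply, symP_apply, Quad.map_smul', map_smul,
      polar_smul_left, polar_smul_right, polar_add_left, smul_eq_mul]
    match_scalars <;> field_simp <;> ring
  obtain ⟨p, hp, hBp⟩ : ∃ p, R p = 0 ∧ B p ∉ F ∙ p := by
    by_contra! hc
    exact hns (scalar_of_sing h2 hR hn B B hB hc hc)
  have hp0 : p ≠ 0 := fun e => hBp (by rw [e, map_zero]; exact Submodule.zero_mem _)
  by_cases hκ : polar R (B p) p = 0
  · obtain ⟨v, hpv, hyv, hv⟩ := exists_aniso_two hR h4 hell p (B p)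
    have h5 := hdiff p v hp hpv
    rw [hκ, zero_smul, add_zero, hyv, mul_zero, neg_zero, zero_smul, add_zero] at h5
    obtain ⟨v', hpv', hyv'⟩ : ∃ v', polar R p v' = 0 ∧ polar R (B p) v' ≠ 0 := by
      by_contra! hc
      exact hBp (mem_line_of_perp hR hc)
    refine fin p _ v' hp0 hp ?_ hpv' ?_ h5
    · rw [polar_add_right, polar_smul_right, polar_smul_right, polar_comm R p (B p), hκ, polar_sing hp, smul_zero,
        smul_zero, add_zero]
    · rw [polar_add_left, polar_smul_left, polar_smul_left, hpv', smul_zero, add_zero, smul_eq_mul]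
      exact mul_ne_zero (neg_ne_zero.2 (mul_ne_zero h2 hv)) hyv'
  · obtain ⟨v, hpv, -, hv⟩ := exists_aniso_two hR h4 hell p p
    obtain ⟨x, hpx, hvx, hx⟩ := exists_aniso_two hR h4 hell p v
    have h5 := hM.shear hp hpx hpv (Or.inr hvx) (hdiff p v hp hpv)
    have hwp : polar R ((-(2 * R v)) • B p + (-(2 * polar R (B p) v)) • v +
        (polar R (B v) v + R v * R v * polar R (B p) p) • p) p = -(2 * R v) * polar R (B p) p := by
      simp only [polar_add_left, polar_smul_left, polar_comm R v p, hpv, polar_sing hp, smul_eq_mul]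
      ring
    rw [hwp] at h5
    refine fin p _ x hp0 hp ?_ hpx ?_ h5
    · simp only [polar_add_right, polar_smul_right, polar_sing hp, hpx, smul_zero, add_zero]
    · simp only [polar_add_left, polar_smul_left, hpx, polar_self', smul_eq_mul, mul_zero, add_zero, zero_add]
      exact mul_ne_zero (by simpa using mul_ne_zero (mul_ne_zero h2 hv) hκ) (mul_ne_zero h2 hx)

end Cfsg.Agent.ClassicalMax.OTensor
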